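import Cfsg.Agent.S1904
import Cfsg.Agent.Solvable.Frattini
import Mathlib.GroupTheory.PGroup
import Mathlib.GroupTheory.SpecificGroups.Quaternion

/-!
# Automorphisms of `p`-power order, `p ≥ 5`, of a 2-group of rank at most two

A `p`-group of automorphisms is trivial, or `p = 5` and it has order five.
-/

set_option autoImplicit false
set_option linter.style.haveILetI false

namespace CfsgLib.CoprimeNilpotent

open Subgroup
open scoped commutatorElement

variable {X : Type*} [Group X] [Finite X] {p : ℕ}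

/-- The fixed points of a `p`-group of automorphisms form a subgroup, congruent in size to the
whole group. -/
theorem card_fixed_modEq [Fact p.Prime] {Y : Subgroup (MulAut X)} (hY : IsPGroup p Y) :
    ∃ F : Subgroup X, (∀ x, x ∈ F ↔ ∀ φ ∈ Y, φ x = x) ∧ Nat.card X ≡ Nat.card F [MOD p] := by
  let F : Subgroup X :=
    { carrier := {x | ∀ φ ∈ Y, φ x = x}
      one_mem' := fun φ _ => map_one φ
      mul_mem' := fun {a b} ha hb φ hφ => by rw [map_mul, ha φ hφ, hb φ hφ]
      inv_mem' := fun {a} ha φ hφ => by rw [map_inv, ha φ hφ] }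
  refine ⟨F, fun x => Iff.rfl, ?_⟩
  have h := hY.card_modEq_card_fixedPoints X
  have e : MulAction.fixedPoints ↥Y X ≃ ↥F := Equiv.subtypeEquivRight fun x =>
    ⟨fun hx φ hφ => hx ⟨φ, hφ⟩, fun hx φ => hx φ.1 φ.2⟩
  rwa [Nat.card_congr e] at h

omit [Finite X] in
/-- An automorphism of odd order moving `t` to `t * d` with `d` fixed fixes `t`. -/
theorem eq_one_of_fixed_diff (hX : IsPGroup 2 X) {φ : MulAut X} (hφ : Odd (orderOf φ)) {t d : X}
    (ht : φ t = t * d) (hd : φ d = d) : d = 1 := by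
  have hk : ∀ k : ℕ, (φ ^ k) t = t * d ^ k := by
    intro k
    induction k with
    | zero => simp
    | succ k ih =>
      rw [pow_succ', MulAut.mul_apply, ih, map_mul, ht, map_pow, hd, mul_assoc, ← pow_succ']
  have h1 := hk (orderOf φ)
  rw [pow_orderOf_eq_one, MulAut.one_apply, eq_comm, mul_eq_left] at h1
  obtain ⟨i, hi⟩ := IsPGroup.iff_orderOf.1 hX d
  exact orderOf_eq_one_iff.1 (Nat.eq_one_of_dvd_coprimes
    ((Nat.coprime_two_left.2 hφ).pow_left i) (hi ▸ dvd_rfl) (orderOf_dvd_of_pow_eq_one h1))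

omit [Finite X] in
theorem odd_orderOf_mem [Fact p.Prime] (hp2 : p ≠ 2) {Y : Subgroup (MulAut X)} (hY : IsPGroup p Y)
    {φ : MulAut X} (hφ : φ ∈ Y) : Odd (orderOf φ) := by
  obtain ⟨i, hi⟩ := IsPGroup.iff_orderOf.1 hY ⟨φ, hφ⟩
  rw [Subgroup.orderOf_mk] at hi
  rw [hi]
  exact ((Fact.out : p.Prime).odd_of_ne_two hp2).pow

/-- Elementary abelian subgroups of order at most four stable under the automorphisms are fixed
pointwise. -/
theorem fixed_of_small (hp : p.Prime) (hp3 : 3 < p) {Y : Subgroup (MulAut X)} (hY : IsPGroup p Y)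
    {E : Subgroup X} (hE : Nat.card E ≤ 4)
    (hinv : ∀ φ ∈ Y, ∀ e ∈ E, φ e ∈ E) {φ : MulAut X} (hφ : φ ∈ Y) {e : X} (he : e ∈ E) :
    φ e = e := by
  haveI := Fact.mk hp
  haveI : Fact (Nat.Prime 2) := ⟨Nat.prime_two⟩
  letI : MulAction ↥Y ↥E :=
    { smul := fun ψ x => ⟨(ψ : MulAut X) (x : X), hinv _ ψ.2 _ x.2⟩
      one_smul := fun x => Subtype.ext rfl
      mul_smul := fun a b x => Subtype.ext rfl }
  by_contra hne
  have horb := MulAction.orbit ↥Y (⟨e, he⟩ : ↥E)
  obtain ⟨j, hj⟩ := hY.card_orbit (⟨e, he⟩ : ↥E)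
  have hj0 : j ≠ 0 := by
    rintro rfl
    rw [pow_zero, Nat.card_eq_one_iff_unique] at hj
    have h1 : (⟨⟨φ, hφ⟩ • (⟨e, he⟩ : ↥E), MulAction.mem_orbit _ _⟩ :
        MulAction.orbit ↥Y (⟨e, he⟩ : ↥E)) = ⟨⟨e, he⟩, MulAction.mem_orbit_self _⟩ :=
      @Subsingleton.elim _ hj.1 _ _
    exact hne (congrArg (fun x => ((x : ↥E) : X)) (congrArg Subtype.val h1))
  have hle : Nat.card (MulAction.orbit ↥Y (⟨e, he⟩ : ↥E)) ≤ Nat.card ↥E :=
    Nat.card_le_card_of_injective _ Subtype.val_injective
  rw [hj] at hle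
  have := Nat.le_self_pow hj0 p
  have hp4 : p = 4 := by omega
  rw [hp4] at hp
  norm_num at hp

/-- A 2-group of rank at most two has a faithfully acted-on section. -/
structure Small (p : ℕ) (X : Type*) [Group X] (Y : Subgroup (MulAut X)) : Prop where
  prime : p.Prime
  three_lt : 3 < p
  two : IsPGroup 2 X
  group : IsPGroup p Y
  rank : ∀ E : Subgroup X, Cfsg.IsElementaryAbelian 2 E → Nat.card E ≤ 4
  gen : Subgroup.closure {g : X | ∃ φ ∈ Y, ∃ x : X, g = x⁻¹ * φ x} = ⊤
  ne_bot : Y ≠ ⊥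

variable {Y : Subgroup (MulAut X)}

/-- The involutions of the centre are fixed. -/
theorem Small.fixed_central (h : Small p X Y) {φ : MulAut X} (hφ : φ ∈ Y) {x : X}
    (hx : x ∈ center X) (hx2 : x * x = 1) : φ x = x := by
  let Ω : Subgroup X := Cfsg.omegaOne 2 (center X)
  have hΩ : Cfsg.IsElementaryAbelian 2 Ω :=
    CfsgLib.PLocal.isElementaryAbelian_omegaOne inferInstance
  refine fixed_of_small h.prime h.three_lt h.group (h.rank Ω hΩ) (fun ψ _ e he => ?_) hφ
    (CfsgLib.PLocal.mem_omegaOne hx (by rw [sq]; exact hx2) : x ∈ Ω)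
  exact CfsgLib.PLocal.mem_omegaOne
    (mem_center_iff.2 fun g => by
      obtain ⟨g, rfl⟩ := ψ.surjective g
      rw [← map_mul, mem_center_iff.1 (CfsgLib.PLocal.omegaOne_le 2 _ he) g, map_mul])
    (by rw [← map_pow, hΩ.2 e he, map_one])

theorem Small.not_comm (h : Small p X Y) : ¬ IsMulCommutative X := by
  intro hc
  haveI := Fact.mk h.prime
  haveI : Fact (Nat.Prime 2) := ⟨Nat.prime_two⟩
  have hcomm : ∀ a b : X, a * b = b * a := fun a b => hc.is_comm.comm a b
  have hctr : ∀ a : X, a ∈ center X := fun a => mem_center_iff.2 fun g => hcomm g a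
  have key : ∀ (k : ℕ) (φ : MulAut X), φ ∈ Y → ∀ x : X, x ^ 2 ^ k = 1 → φ x = x := by
    intro k
    induction k with
    | zero =>
      intro φ _ x hx
      rw [pow_zero, pow_one] at hx
      rw [hx, map_one]
    | succ k ih =>
      intro φ hφ x hx
      have hsq : φ (x * x) = x * x :=
        ih φ hφ _ (by rw [← sq, ← pow_mul, ← pow_succ']; exact hx)
      set d := x⁻¹ * φ x with hd
      have hd2 : d * d = 1 := by
        rw [hd, (show Commute (φ x) x⁻¹ from hcomm _ _).mul_mul_mul_comm, ← map_mul, hsq]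
        group
      have := eq_one_of_fixed_diff h.two (odd_orderOf_mem (by have := h.three_lt; omega) h.group hφ)
        (t := x) (d := d) (by rw [hd, mul_inv_cancel_left]) (h.fixed_central hφ (hctr d) hd2)
      rwa [hd, inv_mul_eq_one, eq_comm] at this
  refine h.ne_bot ((eq_bot_iff_forall _).2 fun φ hφ => MulEquiv.ext fun x => ?_)
  obtain ⟨k, hk⟩ := IsPGroup.iff_orderOf.1 h.two x
  exact key k φ hφ x (hk ▸ pow_orderOf_eq_one x)

/-- Only the identity class modulo the centre is fixed. -/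
theorem Small.center_of_fixed_mod (h : Small p X Y) (hcm : commutator X ≤ center X) {x : X}
    (hx : ∀ φ ∈ Y, x⁻¹ * φ x ∈ center X) : x ∈ center X := by
  classical
  haveI := Fact.mk h.prime
  haveI : Fact (Nat.Prime 2) := ⟨Nat.prime_two⟩
  haveI : IsMulCommutative (X ⧸ center X) := by
    refine ⟨⟨fun a b => ?_⟩⟩
    obtain ⟨a, rfl⟩ := QuotientGroup.mk_surjective a
    obtain ⟨b, rfl⟩ := QuotientGroup.mk_surjective b
    rw [← QuotientGroup.mk_mul, ← QuotientGroup.mk_mul, QuotientGroup.eq]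
    refine hcm ?_
    rw [show (a * b)⁻¹ * (b * a) = ⁅b⁻¹, a⁻¹⁆ by rw [commutatorElement_def]; group]
    exact commutator_mem_commutator (mem_top _) (mem_top _)
  let : CommGroup (X ⧸ center X) :=
    { (inferInstance : Group (X ⧸ center X)) with mul_comm := fun a b => mul_comm' a b }
  haveI := Fintype.ofFinite ↥Y
  let N : X →* X ⧸ center X :=
    { toFun := fun g => ∏ φ : ↥Y, QuotientGroup.mk ((φ : MulAut X) g)
      map_one' := by simp
      map_mul' := fun a b => by
        rw [← Finset.prod_mul_distrib]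
        exact Finset.prod_congr rfl fun φ _ => by rw [map_mul, QuotientGroup.mk_mul] }
  have hN : N = 1 := by
    refine MonoidHom.ext fun g => ?_
    have hmem : g ∈ N.ker := by
      have hle : Subgroup.closure {g : X | ∃ φ ∈ Y, ∃ x : X, g = x⁻¹ * φ x} ≤ N.ker := by
        rw [closure_le]
        rintro _ ⟨φ, hφ, a, rfl⟩
        have hφa : N (φ a) = N a := by
          show (∏ ψ : ↥Y, QuotientGroup.mk ((ψ : MulAut X) (φ a))) = _
          exact Fintype.prod_equiv (Equiv.mulRight (⟨φ, hφ⟩ : ↥Y)) _ _ fun ψ => rfl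
        show N (a⁻¹ * φ a) = 1
        rw [map_mul, map_inv, hφa, inv_mul_cancel]
      rw [h.gen] at hle
      exact hle (mem_top g)
    exact hmem
  have hNx : N x = (QuotientGroup.mk x : X ⧸ center X) ^ Nat.card ↥Y := by
    show (∏ φ : ↥Y, QuotientGroup.mk ((φ : MulAut X) x)) = _
    rw [Nat.card_eq_fintype_card, ← Finset.card_univ]
    refine Finset.prod_eq_pow_card fun φ _ => ?_
    exact (QuotientGroup.eq.2 (hx _ φ.2)).symm
  rw [hN, MonoidHom.one_apply, eq_comm] at hNx
  obtain ⟨i, hi⟩ := IsPGroup.iff_card.1 h.group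
  obtain ⟨j, hj⟩ := IsPGroup.iff_orderOf.1 (h.two.to_quotient (center X))
    (QuotientGroup.mk x : X ⧸ center X)
  have hd := orderOf_dvd_of_pow_eq_one hNx
  rw [hi] at hd
  have h1 : orderOf (QuotientGroup.mk x : X ⧸ center X) = 1 :=
    Nat.eq_one_of_dvd_coprimes
      (((Nat.coprime_primes Nat.prime_two h.prime).2 (by have := h.three_lt; omega)).pow j i)
      (hj ▸ dvd_rfl) hd
  exact (QuotientGroup.eq_one_iff x).1 (orderOf_eq_one_iff.1 h1)

theorem Small.center_sq (h : Small p X Y) (hsp : Cfsg.IsSpecial 2 X) {x : X}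
    (hx : x ∈ center X) : x * x = 1 := by
  haveI : Fact (Nat.Prime 2) := ⟨Nat.prime_two⟩
  have hsq : ∀ a : X, a * a ∈ center X := fun a => by
    rw [← hsp.2.1, ← sq]; exact CfsgLib.Solvable.pow_mem_frattini h.two a
  let Z1 : Subgroup X :=
    { carrier := {z | z ∈ center X ∧ z * z = 1}
      one_mem' := ⟨one_mem _, one_mul 1⟩
      mul_mem' := fun {a b} ha hb => ⟨mul_mem ha.1 hb.1, by
        rw [(show Commute b a from (mem_center_iff.1 hb.1 a).symm).mul_mul_mul_comm, ha.2, hb.2,
          one_mul]⟩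
      inv_mem' := fun {a} ha => ⟨inv_mem ha.1, by rw [← mul_inv_rev, ha.2, inv_one]⟩ }
  have hle : commutator X ≤ Z1 := by
    rw [commutator_def, Subgroup.commutator_le]
    intro a _ b _
    have hc : ∀ c d : X, ⁅c, d⁆ ∈ center X := fun c d =>
      hsp.2.2 ▸ commutator_mem_commutator (mem_top c) (mem_top d)
    refine ⟨hc a b, ?_⟩
    have h1 : ⁅a * a, b⁆ = ⁅a, b⁆ * ⁅a, b⁆ := by
      calc ⁅a * a, b⁆ = a * ⁅a, b⁆ * a⁻¹ * ⁅a, b⁆ := by simp only [commutatorElement_def]; group
        _ = ⁅a, b⁆ * ⁅a, b⁆ := by rw [mem_center_iff.1 (hc a b) a, mul_inv_cancel_right]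
    rw [← h1, commutatorElement_eq_one_iff_mul_comm]
    exact (mem_center_iff.1 (hsq a) b).symm
  exact (hle (hsp.2.2.symm ▸ hx)).2

theorem Small.eq_five (h : Small p X Y) : p = 5 ∧ Nat.card Y = 5 := by
  haveI := Fact.mk h.prime
  haveI : Fact (Nat.Prime 2) := ⟨Nat.prime_two⟩
  have hp2 : p ≠ 2 := by have := h.three_lt; omega
  have hscn : ¬ ∃ A : Subgroup X, A.Normal ∧ centralizer (A : Set X) = A ∧
      ∃ E : Subgroup X, E ≤ A ∧ Cfsg.IsElementaryAbelian 2 E ∧ Nat.card E = 8 := by
    rintro ⟨A, -, -, E, -, hE, h8⟩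
    have := h.rank E hE
    omega
  have hYodd : Odd (Nat.card Y) := by
    obtain ⟨i, hi⟩ := IsPGroup.iff_card.1 h.group
    rw [hi]
    exact (h.prime.odd_of_ne_two hp2).pow
  rcases Cfsg.Agent.S1904.result h.two h.not_comm hscn Y hYodd h.gen with
    ⟨⟨e⟩⟩ | ⟨hsp, hc64, hinv, hinvc⟩ | ⟨⟨hsp, hZ2⟩, hc32, -⟩
  · -- the quaternion group
    exfalso
    obtain ⟨F, hF, hmod⟩ := card_fixed_modEq h.group
    have hc8 : Nat.card X = 8 := by
      rw [Nat.card_congr e.toEquiv, Nat.card_eq_fintype_card, QuaternionGroup.card]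
    haveI : Nontrivial X := Finite.one_lt_card_iff_nontrivial.1 (by omega)
    haveI := h.two.center_nontrivial
    obtain ⟨z, hz⟩ : ∃ z : center X, orderOf z = 2 := by
      refine exists_prime_orderOf_dvd_card' 2 ?_
      obtain ⟨n, hn⟩ := IsPGroup.iff_card.1 (h.two.to_subgroup (center X))
      rw [hn]
      refine dvd_pow_self 2 fun h0 => ?_
      rw [h0, pow_zero] at hn
      exact absurd ((Nat.card_eq_one_iff_unique.1 hn).1) (not_subsingleton _)
    have hzF : (z : X) ∈ F := (hF _).2 fun φ hφ => h.fixed_central hφ z.2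
      (by rw [← Subgroup.coe_mul, ← sq, ← hz, pow_orderOf_eq_one, Subgroup.coe_one])
    have hd : Nat.card F ∣ 8 := hc8 ▸ card_subgroup_dvd_card F
    have h2 : 2 ≤ Nat.card F := by
      haveI : Nontrivial F := ⟨⟨⟨z, hzF⟩, 1, fun e => by
        have e1 : z = 1 := Subtype.ext (show (z : X) = 1 from congrArg Subtype.val e)
        rw [e1, orderOf_one] at hz
        omega⟩⟩
      exact Finite.one_lt_card
    rw [hc8] at hmod
    have hd8 : Nat.card F = 8 := by
      obtain ⟨i, hi, hFi⟩ := (Nat.dvd_prime_pow Nat.prime_two (m := 3)).1 hd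
      rw [hFi] at hmod h2 ⊢
      have hdd := (Nat.modEq_iff_dvd' (Nat.le_of_dvd (by norm_num) (hFi ▸ hd))).1 hmod.symm
      have h5 := h.three_lt
      interval_cases i
      · omega
      · have := Nat.le_of_dvd (by norm_num) hdd
        have hp6 : p = 4 ∨ p = 5 ∨ p = 6 := by omega
        have hpr := h.prime
        rcases hp6 with rfl | rfl | rfl <;> revert hpr hdd <;> norm_num
      · have := Nat.le_of_dvd (by norm_num) hdd
        have hp4 : p = 4 := by omega
        have hpr := h.prime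
        rw [hp4] at hpr
        norm_num at hpr
      · rfl
    refine h.ne_bot ((eq_bot_iff_forall _).2 fun φ hφ => MulEquiv.ext fun x => ?_)
    have hx : x ∈ F := (eq_top_of_card_eq F (hd8.trans hc8.symm)).ge (mem_top x)
    exact (hF x).1 hx φ hφ
  -- the special groups: the quotient by the centre has order sixteen
  all_goals
    have hcm : commutator X ≤ center X := hsp.2.2.le
    have hQ : Nat.card (X ⧸ center X) = 16 := by
      first
      | (have hZ : Nat.card (center X) = 4 := by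
          classical
          haveI := Fintype.ofFinite X
          have e : {x : X // orderOf x = 2} ≃ {x : ↥(center X) // x ≠ 1} :=
            { toFun := fun x => ⟨⟨x.1, hinvc x.1 x.2⟩, fun e => by
                have h1 : x.1 = 1 := congrArg Subtype.val e
                have h2 := x.2
                rw [h1, orderOf_one] at h2
                omega⟩
              invFun := fun x => ⟨x.1.1, orderOf_eq_prime (by rw [sq]; exact h.center_sq hsp x.1.2)
                fun e => x.2 (Subtype.ext e)⟩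
              left_inv := fun x => rfl
              right_inv := fun x => rfl }
          rw [Nat.card_congr e, Nat.card_eq_fintype_card, Fintype.card_subtype_compl,
            Fintype.card_subtype_eq, ← Nat.card_eq_fintype_card] at hinv
          omega
         have := card_eq_card_quotient_mul_card_subgroup (center X)
         rw [hc64, hZ] at this
         omega)
      | (have := card_eq_card_quotient_mul_card_subgroup (center X)
         rw [hc32, hZ2] at this
         omega)
    haveI hchar : (center X).Characteristic := inferInstance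
    let ρ : ↥Y →* MulAut (X ⧸ center X) :=
      { toFun := fun φ => QuotientGroup.congr _ _ (φ : MulAut X)
          (Subgroup.characteristic_iff_map_eq.1 hchar _)
        map_one' := MulEquiv.ext fun q => by
          obtain ⟨q, rfl⟩ := QuotientGroup.mk_surjective q
          rfl
        map_mul' := fun a b => MulEquiv.ext fun q => by
          obtain ⟨q, rfl⟩ := QuotientGroup.mk_surjective q
          rfl }
    have hρ : Function.Injective ρ := by
      rw [← MonoidHom.ker_eq_bot_iff, eq_bot_iff_forall]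
      intro φ hφ
      refine Subtype.ext (MulEquiv.ext fun x => ?_)
      have h1 := congrArg (fun ψ : MulAut (X ⧸ center X) => ψ (QuotientGroup.mk x)) hφ
      have h2 : x⁻¹ * (φ : MulAut X) x ∈ center X := QuotientGroup.eq.1 h1.symm
      have h3 := eq_one_of_fixed_diff h.two (odd_orderOf_mem hp2 h.group φ.2) (t := x)
        (d := x⁻¹ * (φ : MulAut X) x) (by rw [mul_inv_cancel_left])
        (h.fixed_central φ.2 h2 (h.center_sq hsp h2))
      rw [inv_mul_eq_one] at h3
      exact h3.symm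
    have hR : IsPGroup p ↥ρ.range := h.group.of_surjective ρ.rangeRestrict
      ρ.rangeRestrict_surjective
    obtain ⟨F, hF, hmod⟩ := card_fixed_modEq hR
    have hF1 : F = ⊥ := by
      refine (eq_bot_iff_forall _).2 fun q hq => ?_
      obtain ⟨x, rfl⟩ := QuotientGroup.mk_surjective q
      refine (QuotientGroup.eq_one_iff x).2 (h.center_of_fixed_mod hcm fun φ hφ => ?_)
      exact QuotientGroup.eq.1 (((hF _).1 hq) (ρ ⟨φ, hφ⟩) ⟨⟨φ, hφ⟩, rfl⟩).symm
    rw [hQ, hF1, card_bot] at hmod
    have hp5 : p = 5 := by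
      have hd : p ∣ 3 * 5 := (Nat.modEq_iff_dvd' (by norm_num)).1 hmod.symm
      rcases h.prime.dvd_mul.1 hd with h' | h'
      · have := Nat.le_of_dvd (by norm_num) h'
        have := h.three_lt
        omega
      · exact (Nat.prime_dvd_prime_iff_eq h.prime (by norm_num)).1 h'
    refine ⟨hp5, ?_⟩
    subst hp5
    -- semiregularity on the nonidentity elements of the quotient
    have hfree : ∀ φ : ↥Y, ∀ q : X ⧸ center X, q ≠ 1 → ρ φ q = q → φ = 1 := by
      intro φ q hq hfix
      have hZ : IsPGroup 5 ↥(zpowers (ρ φ)) :=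
        hR.to_le (zpowers_le.2 ⟨φ, rfl⟩)
      obtain ⟨F', hF', hmod'⟩ := card_fixed_modEq hZ
      obtain ⟨i, hi, hi'⟩ := (Nat.dvd_prime_pow Nat.prime_two (m := 4)).1
        (show Nat.card F' ∣ 2 ^ 4 by
          have := card_subgroup_dvd_card F'
          rw [hQ] at this
          exact this)
      rw [hQ, hi'] at hmod'
      have hqF : q ∈ F' := (hF' q).2 fun ψ hψ => by
        have : ψ ∈ (MulAction.stabilizer (MulAut (X ⧸ center X)) q) :=
          zpowers_le.2 (show ρ φ ∈ MulAction.stabilizer _ q from hfix) hψ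
        exact this
      have hne : Nat.card F' ≠ 1 := fun h1 => by
        rw [card_eq_one] at h1
        rw [h1, mem_bot] at hqF
        exact hq hqF
      have hd := (Nat.modEq_iff_dvd' (Nat.pow_le_pow_right two_pos hi)).1 hmod'.symm
      have hi4 : i = 4 := by interval_cases i <;> omega
      have htop : F' = ⊤ := eq_top_of_card_eq F' (by rw [hi', hi4, hQ]; norm_num)
      refine hρ ?_
      rw [map_one]
      exact MulEquiv.ext fun r => (hF' r).1 (htop.ge (mem_top r)) _ (mem_zpowers _)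
    obtain ⟨q, hq⟩ : ∃ q : X ⧸ center X, q ≠ 1 := by
      haveI : Nontrivial (X ⧸ center X) := Finite.one_lt_card_iff_nontrivial.1 (by omega)
      exact exists_ne 1
    have hinj : Function.Injective fun φ : ↥Y => ρ φ q := by
      intro a b hab
      refine inv_mul_eq_one.1 (hfree (a⁻¹ * b) q hq ?_)
      rw [map_mul, map_inv, MulAut.mul_apply]
      simp only at hab
      rw [← hab, MulAut.inv_apply_self]
    have hle := Nat.card_le_card_of_injective _ hinj
    rw [hQ] at hle
    obtain ⟨j, hj⟩ := IsPGroup.iff_card.1 h.group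
    rw [hj] at hle ⊢
    have hj0 : j ≠ 0 := fun h0 => h.ne_bot (card_eq_one.1 (by rw [hj, h0, pow_zero]))
    have hj1 : j < 2 := by
      by_contra hlt
      have := Nat.pow_le_pow_right (show 0 < 5 by norm_num) (not_lt.1 hlt)
      omega
    rw [show j = 1 by omega, pow_one]

/-- A `p`-group of automorphisms of a 2-group of rank at most two is trivial, or `p = 5` and it has
order five. -/
theorem card_pGroup_aut {T : Type*} [Group T] [Finite T] (hp : p.Prime) (hp3 : 3 < p)
    (hT : IsPGroup 2 T) (hrank : ∀ E : Subgroup T, Cfsg.IsElementaryAbelian 2 E → Nat.card E ≤ 4)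
    (Y : Subgroup (MulAut T)) (hY : IsPGroup p Y) : Y = ⊥ ∨ (p = 5 ∧ Nat.card Y = 5) := by
  haveI := Fact.mk hp
  by_cases hY1 : Y = ⊥
  · exact Or.inl hY1
  right
  obtain ⟨K, ⟨hKinv, hKfaith⟩, hKmin⟩ := Set.Finite.exists_minimal
    (s := {K : Subgroup T | (∀ φ ∈ Y, ∀ x ∈ K, φ x ∈ K) ∧
      ∀ φ ∈ Y, (∀ x ∈ K, φ x = x) → φ = 1}) (Set.toFinite _)
    ⟨⊤, fun _ _ x _ => mem_top _, fun φ _ h => MulEquiv.ext fun x => h x (mem_top x)⟩
  let r : ↥Y →* MulAut ↥K :=
    { toFun := fun φ =>
        { toFun := fun x => ⟨(φ : MulAut T) x, hKinv _ φ.2 _ x.2⟩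
          invFun := fun x => ⟨(φ : MulAut T)⁻¹ x, hKinv _ (inv_mem φ.2) _ x.2⟩
          left_inv := fun x => Subtype.ext (MulAut.inv_apply_self T (φ : MulAut T) x)
          right_inv := fun x => Subtype.ext (MulAut.apply_inv_self T (φ : MulAut T) x)
          map_mul' := fun x y => Subtype.ext (map_mul (φ : MulAut T) _ _) }
      map_one' := MulEquiv.ext fun x => Subtype.ext rfl
      map_mul' := fun a b => MulEquiv.ext fun x => Subtype.ext rfl }
  have hr : Function.Injective r := by
    rw [← MonoidHom.ker_eq_bot_iff, eq_bot_iff_forall]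
    intro φ hφ
    exact Subtype.ext (hKfaith _ φ.2 fun x hx =>
      congrArg Subtype.val (congrArg (fun ψ : MulAut ↥K => ψ ⟨x, hx⟩) hφ))
  have hcard : Nat.card ↥r.range = Nat.card Y :=
    (Nat.card_congr (Equiv.ofInjective r hr)).symm
  set K' := Subgroup.closure {g : ↥K | ∃ φ ∈ r.range, ∃ x : ↥K, g = x⁻¹ * φ x} with hK'
  have hgen : K' = ⊤ := by
    have hmem : K'.map K.subtype ∈ {K : Subgroup T | (∀ φ ∈ Y, ∀ x ∈ K, φ x ∈ K) ∧
        ∀ φ ∈ Y, (∀ x ∈ K, φ x = x) → φ = 1} := by
      refine ⟨fun φ hφ => ?_, fun φ hφ hfix => hKfaith φ hφ fun x hx => ?_⟩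
      · rintro _ ⟨x, hx, rfl⟩
        refine ⟨r ⟨φ, hφ⟩ x, ?_, rfl⟩
        have hle : K' ≤ K'.comap (r ⟨φ, hφ⟩).toMonoidHom := by
          rw [hK', closure_le]
          rintro _ ⟨ψ, hψ, a, rfl⟩
          refine subset_closure ⟨r ⟨φ, hφ⟩ * ψ * (r ⟨φ, hφ⟩)⁻¹,
            mul_mem (mul_mem ⟨_, rfl⟩ hψ) (inv_mem ⟨_, rfl⟩), r ⟨φ, hφ⟩ a, ?_⟩
          show r ⟨φ, hφ⟩ (a⁻¹ * ψ a) = _
          rw [map_mul, map_inv, MulAut.mul_apply, MulAut.mul_apply, MulAut.inv_apply_self]
        exact hle hx
      · have hd : φ (x⁻¹ * φ x) = x⁻¹ * φ x :=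
          hfix _ ⟨⟨x, hx⟩⁻¹ * r ⟨φ, hφ⟩ ⟨x, hx⟩,
            subset_closure ⟨r ⟨φ, hφ⟩, ⟨_, rfl⟩, ⟨x, hx⟩, rfl⟩, rfl⟩
        have h1 := eq_one_of_fixed_diff hT (odd_orderOf_mem (by omega) hY hφ) (t := x)
          (d := x⁻¹ * φ x) (by rw [mul_inv_cancel_left]) hd
        rwa [inv_mul_eq_one, eq_comm] at h1
    have hle := hKmin hmem (map_subtype_le K')
    exact eq_top_iff.2 fun x _ => by
      obtain ⟨y, hy, hyx⟩ := hle x.2
      rwa [← Subtype.ext (show (y : T) = x from hyx)]
  have hsmall : Small p ↥K r.range :=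
    { prime := hp
      three_lt := hp3
      two := hT.to_subgroup K
      group := hY.of_surjective r.rangeRestrict r.rangeRestrict_surjective
      rank := fun E hE => by
        rw [← card_map_of_injective (K := E) K.subtype_injective]
        refine hrank _ ⟨⟨⟨?_⟩⟩, ?_⟩
        · rintro ⟨_, a, ha, rfl⟩ ⟨_, b, hb, rfl⟩
          refine Subtype.ext (show K.subtype a * K.subtype b = K.subtype b * K.subtype a from ?_)
          rw [← map_mul, ← map_mul]
          exact congrArg K.subtype (congrArg Subtype.val (hE.1.is_comm.comm ⟨a, ha⟩ ⟨b, hb⟩))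
        · rintro _ ⟨a, ha, rfl⟩
          rw [← map_pow, hE.2 a ha, map_one]
      gen := hgen
      ne_bot := fun h0 => hY1 (card_eq_one.1 (by rw [← hcard, h0, card_bot])) }
  obtain ⟨h5, h5'⟩ := hsmall.eq_five
  exact ⟨h5, hcard ▸ h5'⟩

end CfsgLib.CoprimeNilpotent
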