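import Cfsg.Agent.Solvable.Hall
import Cfsg.Agent.NilpotentCover.Basic
import Cfsg.Agent.Classification.Four
import Cfsg.Agent.PLocal.Thompson
import Cfsg.Prelude.Def_LocalEven
import Mathlib.GroupTheory.SpecificGroups.KleinFour

/-!
# Groups all of whose `p'`-subgroups are nilpotent: first consequences

* `commute_of_normalizes`: coprime `p'`-action inside the group is trivial.
* `exists_primePow_of_inverted`: an element of odd order inverted by an involution is a `p`-element.
* `exists_sylow_commute`: in a solvable subgroup an odd `p'`-element centralizes a Sylow 2-subgroup.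
* `not_involves_symFour`: solvable subgroups have no section `S₄`.
* `four_no_three`: the automizer of a four group is a 2-group.
-/

set_option autoImplicit false
set_option linter.style.haveILetI false

namespace CfsgLib.CoprimeNilpotent

open Subgroup

/-- Every subgroup of order prime to `p` is nilpotent. -/
def PPrimeNilpotent (p : ℕ) (G : Type*) [Group G] : Prop :=
  ∀ H : Subgroup G, (Nat.card ↥H).Coprime p → Group.IsNilpotent ↥H

/-- A minimal nonsolvable group all of whose `p'`-subgroups are nilpotent. -/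
structure Setting (p : ℕ) (G : Type*) [Group G] : Prop where
  prime : p.Prime
  three_lt : 3 < p
  nil : PPrimeNilpotent p G
  simple : IsSimpleGroup G
  even : Even (Nat.card G)
  proper : ∀ H : Subgroup G, H ≠ ⊤ → Group.IsSolvable ↥H
  nonsolvable : ¬ Group.IsSolvable G

variable {G : Type*} [Group G] {p : ℕ}

theorem coprime_pow_of_ne {q : ℕ} (hq : q.Prime) (hp : p.Prime) (hqp : q ≠ p) (i : ℕ) :
    (q ^ i).Coprime p :=
  ((Nat.coprime_primes hq hp).2 hqp).pow_left i

/-- A subgroup containing a Sylow subgroup for every prime is the whole group. -/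
theorem eq_top_of_sylows {N : Type*} [Group N] [Finite N] (K : Subgroup N)
    (h : ∀ r : ℕ, r.Prime → ∃ P : Sylow r N, (P : Subgroup N) ≤ K) : K = ⊤ := by
  rw [← index_eq_one]
  by_contra hne
  obtain ⟨r, hr, hdvd⟩ := Nat.exists_prime_and_dvd hne
  obtain ⟨P, hP⟩ := h r hr
  haveI := Fact.mk hr
  exact P.not_dvd_index (hdvd.trans (index_dvd_of_le hP))

/-- A subgroup containing all elements of `r`-power order contains every Sylow `r`-subgroup. -/
theorem sylow_le_of_forall {N : Type*} [Group N] [Finite N] {r : ℕ} (hr : r.Prime)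
    {K : Subgroup N} (h : ∀ x : N, (∃ i, orderOf x = r ^ i) → x ∈ K) (P : Sylow r N) :
    (P : Subgroup N) ≤ K := by
  haveI := Fact.mk hr
  intro x hx
  obtain ⟨i, hi⟩ := IsPGroup.iff_orderOf.1 P.isPGroup' ⟨x, hx⟩
  exact h x ⟨i, by rwa [← Subgroup.orderOf_coe] at hi⟩

variable [Finite G]

theorem card_sup_zpowers_dvd {A : Subgroup G} {x : G} (hx : x ∈ normalizer (A : Set G)) :
    Nat.card ↥(A ⊔ zpowers x) ∣ Nat.card A * orderOf x := by
  set N := normalizer (A : Set G) with hN
  have hAN : A ≤ N := le_normalizer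
  have hxN : zpowers x ≤ N := zpowers_le.2 hx
  haveI : (A.subgroupOf N).Normal := (normal_subgroupOf_iff_le_normalizer hAN).2 le_rfl
  have h := CfsgLib.PLocal.card_sup_dvd_mul ((zpowers x).subgroupOf N) (A.subgroupOf N)
  rw [← subgroupOf_sup hxN hAN, Nat.card_congr (subgroupOfEquivOfLe (sup_le hxN hAN)).toEquiv,
    Nat.card_congr (subgroupOfEquivOfLe hxN).toEquiv,
    Nat.card_congr (subgroupOfEquivOfLe hAN).toEquiv, Nat.card_zpowers, mul_comm, sup_comm] at h
  exact h

/-- An element of order prime to `p` centralizes every `p'`-subgroup of coprime order that it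
normalizes. -/
theorem commute_of_normalizes (hn : PPrimeNilpotent p G) {A : Subgroup G} {x : G}
    (hA : (Nat.card A).Coprime p) (hx : (orderOf x).Coprime p)
    (hxn : x ∈ normalizer (A : Set G)) (hco : (orderOf x).Coprime (Nat.card A)) {a : G}
    (ha : a ∈ A) : Commute x a := by
  have hnil := hn (A ⊔ zpowers x)
    ((hA.mul_left hx).coprime_dvd_left (card_sup_zpowers_dvd hxn))
  refine CfsgLib.NilpotentCover.commute_of_coprime_mem hnil (mem_sup_right (mem_zpowers x))
    (mem_sup_left ha) (hco.coprime_dvd_right ?_)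
  exact Subgroup.orderOf_dvd_natCard A ha

/-- An element of odd prime power order, not a power of `p`, centralizes each 2-group it
normalizes. -/
theorem commute_of_normalizes_two (hp : p.Prime) (hp2 : p ≠ 2) (hn : PPrimeNilpotent p G)
    {T : Subgroup G} (hT : IsPGroup 2 T) {q : ℕ} (hq : q.Prime) (hqp : q ≠ p) (hq2 : q ≠ 2)
    {x : G} (hx : ∃ i, orderOf x = q ^ i) (hxn : x ∈ normalizer (T : Set G)) {a : G}
    (ha : a ∈ T) : Commute x a := by
  haveI : Fact (Nat.Prime 2) := ⟨Nat.prime_two⟩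
  obtain ⟨i, hi⟩ := hx
  obtain ⟨n, hTn⟩ := IsPGroup.iff_card.1 hT
  refine commute_of_normalizes hn (A := T) ?_ ?_ hxn ?_ ha
  · rw [hTn]; exact coprime_pow_of_ne Nat.prime_two hp hp2.symm n
  · rw [hi]; exact coprime_pow_of_ne hq hp hqp i
  · rw [hTn, hi]
    exact (((Nat.coprime_primes hq Nat.prime_two).2 hq2).pow_left i).pow_right n

/-- An element of odd order inverted by an involution has `p`-power order. -/
theorem exists_primePow_of_inverted (hp : p.Prime) (hp2 : p ≠ 2) (hn : PPrimeNilpotent p G)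
    {d u : G} (hu : orderOf u = 2) (hd : Odd (orderOf d)) (hinv : u * d * u⁻¹ = d⁻¹) :
    ∃ i, orderOf d = p ^ i := by
  obtain ⟨e, r, hr, he⟩ :=
    Nat.exists_eq_pow_mul_and_not_dvd (orderOf_pos d).ne' p hp.ne_one
  refine ⟨e, ?_⟩
  set d' := d ^ p ^ e with hd'
  have hd'o : orderOf d' = r := by
    rw [hd', orderOf_pow_of_dvd (pow_pos hp.pos e).ne' (he ▸ dvd_mul_right _ _), he,
      Nat.mul_div_cancel_left _ (pow_pos hp.pos e)]
  have hinv' : u * d' * u⁻¹ = d'⁻¹ := by
    rw [hd', ← conj_pow, hinv, inv_pow]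
  have hrodd : Odd r := hd.of_dvd_nat (he ▸ dvd_mul_left _ _)
  have hun : u ∈ normalizer (zpowers d' : Set G) := by
    rw [mem_normalizer_iff_map_conj_eq, MonoidHom.map_zpowers]
    show zpowers (u * d' * u⁻¹) = zpowers d'
    rw [hinv', zpowers_inv]
  have hcomm : Commute u d' := by
    refine commute_of_normalizes hn (A := zpowers d') ?_ ?_ hun ?_ (mem_zpowers d')
    · rw [Nat.card_zpowers, hd'o]
      exact ((Nat.Prime.coprime_iff_not_dvd hp).2 hr).symm
    · rw [hu]; exact (Nat.coprime_primes Nat.prime_two hp).2 hp2.symm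
    · rw [hu, Nat.card_zpowers, hd'o]
      exact Nat.coprime_two_left.2 hrodd
  rw [hcomm.eq, mul_inv_cancel_right] at hinv'
  have h2 : orderOf d' ∣ 2 := orderOf_dvd_of_pow_eq_one (by
    rw [sq]; nth_rw 2 [hinv']; exact mul_inv_cancel d')
  rw [hd'o] at h2
  have hr1 : r = 1 := by
    rcases (Nat.dvd_prime Nat.prime_two).1 h2 with h | h
    · exact h
    · exact absurd (h ▸ hrodd) (by decide)
  rw [he, hr1, mul_one]

/-- The set of primes different from `p`. -/
def notP (p : ℕ) : Set ℕ := {q | q ≠ p}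

omit [Finite G] in
theorem piSubgroup_iff_coprime (hp : p.Prime) {H : Subgroup G} [Finite H] :
    Cfsg.IsPiSubgroup (notP p) H ↔ (Nat.card H).Coprime p := by
  constructor
  · intro h
    exact ((Nat.Prime.coprime_iff_not_dvd hp).2 fun hd => h p hp hd rfl).symm
  · intro h q hq hqd hqp
    exact (Nat.Prime.coprime_iff_not_dvd hp).1 h.symm (hqp ▸ hqd)

/-- In a solvable subgroup an odd element of order prime to `p` centralizes a Sylow 2-subgroup. -/
theorem exists_sylow_commute (hp : p.Prime) (hp2 : p ≠ 2) (hn : PPrimeNilpotent p G)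
    {X : Subgroup G} (hX : Group.IsSolvable ↥X) {c : G} (hc : c ∈ X) (hodd : Odd (orderOf c))
    (hcp : (orderOf c).Coprime p) :
    ∃ S : Sylow 2 ↥X, ∀ s : ↥X, s ∈ S → Commute c (s : G) := by
  haveI : Fact (Nat.Prime 2) := ⟨Nat.prime_two⟩
  haveI := hX
  obtain ⟨H, hH, hcH⟩ := CfsgLib.Solvable.exists_isPiHall_ge (π := notP p)
    (U := zpowers (⟨c, hc⟩ : X)) ((piSubgroup_iff_coprime hp).2 (by
      rwa [Nat.card_zpowers, Subgroup.orderOf_mk]))
  obtain ⟨S⟩ : Nonempty (Sylow 2 ↥X) := inferInstance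
  obtain ⟨g, hg⟩ := CfsgLib.Solvable.exists_conj_le_isPiHall hH (U := (S : Subgroup ↥X))
    (CfsgLib.Solvable.piNat_of_isPGroup Nat.prime_two (show (2 : ℕ) ≠ p from hp2.symm)
      S.isPGroup')
  refine ⟨g • S, fun s hs => ?_⟩
  have hsH : s ∈ H := hg hs
  have hnil := hn (H.map X.subtype) (by
    rw [card_map_of_injective X.subtype_injective]; exact (piSubgroup_iff_coprime hp).1 hH.1)
  refine CfsgLib.NilpotentCover.commute_of_coprime_mem hnil (x := c) (y := (s : G))
    ⟨_, hcH (mem_zpowers _), rfl⟩ ⟨s, hsH, rfl⟩ ?_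
  obtain ⟨k, hk⟩ := IsPGroup.iff_orderOf.1 (g • S).isPGroup' ⟨s, hs⟩
  rw [← Subgroup.orderOf_coe] at hk
  rw [Subgroup.orderOf_coe, hk]
  exact (Nat.coprime_two_right.2 hodd).pow_right k

/-- Solvable subgroups do not involve the symmetric group of degree four. -/
theorem not_involves_symFour (hp : p.Prime) (hp3 : 3 < p) (hn : PPrimeNilpotent p G)
    {X : Subgroup G} (hX : Group.IsSolvable ↥X) :
    ¬ Cfsg.Involves (Equiv.Perm (Fin 4)) ↥X := by
  rintro ⟨K, R, hR, ⟨e⟩⟩
  haveI := hX
  haveI := hR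
  obtain ⟨H, hH⟩ := CfsgLib.Solvable.exists_isPiHall (notP p) ↥K
  set f : ↥K →* Equiv.Perm (Fin 4) :=
    e.toMonoidHom.comp (QuotientGroup.mk' (R.subgroupOf K)) with hf
  have hfs : Function.Surjective f := e.surjective.comp (QuotientGroup.mk'_surjective _)
  have htop : H.map f = ⊤ := by
    refine CfsgLib.Solvable.eq_of_isPiHall_le (CfsgLib.Solvable.isPiHall_map hfs hH) ?_ le_top
    rw [piSubgroup_iff_coprime hp, card_top, Nat.card_perm, Nat.card_fin]
    refine ((Nat.Prime.coprime_iff_not_dvd hp).2 fun h => ?_).symm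
    rw [Nat.Prime.dvd_factorial hp] at h
    have h4 : p = 4 := by omega
    rw [h4] at hp
    norm_num at hp
  have hnilG := hn ((H.map K.subtype).map X.subtype) (by
    rw [card_map_of_injective X.subtype_injective, card_map_of_injective K.subtype_injective]
    exact (piSubgroup_iff_coprime hp).1 hH.1)
  haveI : Group.IsNilpotent ↥H :=
    Group.nilpotent_of_mulEquiv ((H.equivMapOfInjective K.subtype K.subtype_injective).trans
      ((H.map K.subtype).equivMapOfInjective X.subtype X.subtype_injective)).symm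
  have hsurj : Function.Surjective (f.comp H.subtype) := by
    intro y
    obtain ⟨x, hx, rfl⟩ := (htop.ge (mem_top y) : y ∈ H.map f)
    exact ⟨⟨x, hx⟩, rfl⟩
  haveI : Group.IsNilpotent (Equiv.Perm (Fin 4)) :=
    Group.nilpotent_of_surjective (f.comp H.subtype) hsurj
  have ha : orderOf (Equiv.swap (0 : Fin 4) 1) = 2 :=
    orderOf_eq_prime (hp := ⟨Nat.prime_two⟩) (by decide) (by decide)
  have hb : orderOf (Equiv.swap (0 : Fin 4) 1 * Equiv.swap (1 : Fin 4) 2) = 3 :=
    orderOf_eq_prime (hp := ⟨Nat.prime_three⟩) (by decide) (by decide)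
  have := CfsgLib.NilpotentCover.commute_of_coprime (Equiv.swap (0 : Fin 4) 1)
    (Equiv.swap (0 : Fin 4) 1 * Equiv.swap (1 : Fin 4) 2) (by rw [ha, hb]; norm_num)
  exact absurd this.eq (by decide)

/-- No element of 3-power order moves an involution of a four group it normalizes; in particular two
elements cannot induce the full automorphism group of a four group. -/
theorem four_no_three (hp : p.Prime) (hp3 : 3 < p) (hn : PPrimeNilpotent p G) {a b x q : G}
    (ha : orderOf a = 2) (hb : orderOf b = 2) (hab : a ≠ b) (hc : a * b = b * a)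
    (hxa : x * a * x⁻¹ = a) (hxb : x * b * x⁻¹ = a * b)
    (hqb : q * b * q⁻¹ = b) (hqa : q * a * q⁻¹ = a * b) : False := by
  have haa : a * a = 1 := by rw [← sq, ← ha, pow_orderOf_eq_one]
  have hbb : b * b = 1 := by rw [← sq, ← hb, pow_orderOf_eq_one]
  set y := x * q with hy
  have hya : y * a * y⁻¹ = b := by
    calc y * a * y⁻¹ = x * (q * a * q⁻¹) * x⁻¹ := by rw [hy]; group
      _ = (x * a * x⁻¹) * (x * b * x⁻¹) := by rw [hqa]; group
      _ = b := by rw [hxa, hxb, ← mul_assoc, haa, one_mul]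
  have hyb : y * b * y⁻¹ = a * b := by
    calc y * b * y⁻¹ = x * (q * b * q⁻¹) * x⁻¹ := by rw [hy]; group
      _ = a * b := by rw [hqb, hxb]
  have hy3 : y ^ 3 * a * (y ^ 3)⁻¹ = a := by
    calc y ^ 3 * a * (y ^ 3)⁻¹ = y * (y * (y * a * y⁻¹) * y⁻¹) * y⁻¹ := by
          simp [pow_succ, mul_assoc]
      _ = (y * a * y⁻¹) * (y * b * y⁻¹) := by
          rw [hya, hyb]
          calc y * (a * b) * y⁻¹ = (y * a * y⁻¹) * (y * b * y⁻¹) := by group
            _ = b * (a * b) := by rw [hya, hyb]
      _ = a := by rw [hya, hyb, hc, ← mul_assoc, hbb, one_mul]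
  obtain ⟨e, k, hk, he⟩ :=
    Nat.exists_eq_pow_mul_and_not_dvd (orderOf_pos y).ne' 3 (by norm_num)
  set y' := y ^ k with hy'
  have hk0 : k ≠ 0 := by rintro rfl; exact hk (dvd_zero 3)
  have hy'o : orderOf y' = 3 ^ e := by
    rw [hy', orderOf_pow_of_dvd hk0 (he ▸ dvd_mul_left _ _), he,
      Nat.mul_div_cancel _ (Nat.pos_of_ne_zero hk0)]
  set F := CfsgLib.Classification.fourSpan a b haa hbb hc with hF
  have hFk : IsKleinFour F := CfsgLib.Classification.isKleinFour_fourSpan haa hbb hc
    (fun h => by rw [h, orderOf_one] at ha; omega) (fun h => by rw [h, orderOf_one] at hb; omega)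
    hab
  have hFmap : F.map (MulAut.conj y).toMonoidHom ≤ F := by
    rintro _ ⟨f, hf, rfl⟩
    show y * f * y⁻¹ ∈ F
    rcases CfsgLib.Classification.mem_fourSpan.1 hf with rfl | rfl | rfl | rfl
    · simp [one_mem]
    · rw [hya]; exact CfsgLib.Classification.mem_fourSpan.2 (Or.inr (Or.inr (Or.inl rfl)))
    · rw [hyb]; exact CfsgLib.Classification.mem_fourSpan.2 (Or.inr (Or.inr (Or.inr rfl)))
    · rw [show y * (a * b) * y⁻¹ = (y * a * y⁻¹) * (y * b * y⁻¹) by group, hya, hyb, hc,
        ← mul_assoc, hbb, one_mul]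
      exact CfsgLib.Classification.mem_fourSpan.2 (Or.inr (Or.inl rfl))
  have hyn : y ∈ normalizer (F : Set G) := mem_normalizer_iff_map_conj_eq.2
    (eq_of_le_of_card_ge hFmap (by rw [card_map_of_injective (MulAut.conj y).injective]))
  have hcomm : Commute y' a := by
    refine commute_of_normalizes hn (A := F) ?_ ?_ ((normalizer (F : Set G)).pow_mem hyn k) ?_
      (CfsgLib.Classification.mem_fourSpan.2 (Or.inr (Or.inl rfl)))
    · rw [hFk.card_four, show (4 : ℕ) = 2 ^ 2 from rfl]
      exact coprime_pow_of_ne Nat.prime_two hp (by omega) 2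
    · rw [hy'o]; exact coprime_pow_of_ne Nat.prime_three hp (by omega) e
    · rw [hFk.card_four, hy'o, show (4 : ℕ) = 2 ^ 2 from rfl]
      exact ((by norm_num : Nat.Coprime 3 2).pow_left e).pow_right 2
  have hmem3 : y ^ 3 ∈ centralizer ({a} : Set G) :=
    mem_centralizer_singleton_iff.2 (mul_inv_eq_iff_eq_mul.1 hy3)
  have hmemk : y' ∈ centralizer ({a} : Set G) := mem_centralizer_singleton_iff.2 hcomm.eq
  have hco : Nat.Coprime 3 k := (Nat.Prime.coprime_iff_not_dvd Nat.prime_three).2 hk
  have hy1 : y = (y ^ 3) ^ Nat.gcdA 3 k * y' ^ Nat.gcdB 3 k := by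
    rw [hy', ← zpow_natCast y 3, ← zpow_natCast y k, ← zpow_mul, ← zpow_mul, ← zpow_add,
      ← Nat.gcd_eq_gcd_ab, hco.gcd_eq_one, Nat.cast_one, zpow_one]
  have hyc : y * a = a * y := by
    refine mem_centralizer_singleton_iff.1 ?_
    rw [hy1]
    exact mul_mem (zpow_mem hmem3 _) (zpow_mem hmemk _)
  exact hab ((mul_inv_eq_iff_eq_mul.2 hyc).symm.trans hya)

end CfsgLib.CoprimeNilpotent
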