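import Cfsg.Agent.CoprimeNilpotent.Fusion

/-!
# The final count

The involutions at a point commute, so there are exactly `p` of them and every two point stabilizer
`D` has order `p` and is the centralizer of each of its nontrivial elements.  Hence the Sylow
`p`-subgroups have order `p`, and there are too many pairs of involutions with different fixed
points.
-/

set_option autoImplicit false
set_option linter.style.haveILetI false

namespace CfsgLib.CoprimeNilpotent

open Subgroup CfsgLib.SEmbed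
open CfsgLib.Small (orderOf_conj_eq mul_self_of_orderOf_two inv_eq_self_of_orderOf_two
  ne_one_of_orderOf_two)
open scoped Pointwise

/-- `2^k = p^a + 1` only for `a = 1`. -/
theorem eq_of_two_pow_eq {p a k : ℕ} (hp : p.Prime) (hp2 : p ≠ 2) (hk : 2 ≤ k)
    (h : 2 ^ k = p ^ a + 1) : a = 1 := by
  obtain ⟨r, hr⟩ := hp.odd_of_ne_two hp2
  rcases Nat.even_or_odd a with ⟨b, hb⟩ | ⟨b, hb⟩
  · exfalso
    obtain ⟨c, hc⟩ : ∃ c, p ^ b = 2 * c + 1 := (hp.odd_of_ne_two hp2).pow
    obtain ⟨j, rfl⟩ : ∃ j, k = j + 2 := ⟨k - 2, by omega⟩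
    rw [hb, show p ^ (b + b) = p ^ b * p ^ b from pow_add p b b, hc] at h
    have h4 : 2 ^ (j + 2) = 4 * 2 ^ j := by ring
    have h5 : (2 * c + 1) * (2 * c + 1) + 1 = 4 * (c * c + c) + 2 := by ring
    rw [h4, h5] at h
    omega
  · have key : ∀ b : ℕ, ∃ q, p ^ (2 * b + 1) + 1 = (p + 1) * (2 * q + 1) := by
      intro b
      induction b with
      | zero => exact ⟨0, by ring⟩
      | succ b ih =>
        obtain ⟨q, hq⟩ := ih
        refine ⟨(4 * r * r + 4 * r + 1) * q + 2 * r * r + r, ?_⟩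
        have e : p ^ (2 * (b + 1) + 1) = p ^ (2 * b + 1) * (p * p) := by ring
        rw [e]
        zify at hq hr ⊢
        linear_combination ((p : ℤ) * p) * hq + ((p : ℤ) + 1) *
          ((2 * (q : ℤ)) * ((p : ℤ) + (2 * r + 1)) + ((p : ℤ) + 2 * r)) * hr
    obtain ⟨q, hq⟩ := key b
    rw [← hb, ← h] at hq
    have hq1 : 2 * q + 1 = 1 :=
      Nat.eq_one_of_dvd_coprimes (((Nat.coprime_two_left.2 (odd_two_mul_add_one q)).pow_left k))
        ⟨p + 1, by rw [hq]; ring⟩ dvd_rfl
    rw [hq1, mul_one, h] at hq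
    exact Nat.pow_right_injective hp.two_le (show p ^ a = p ^ 1 by rw [pow_one]; omega)

/-- Commuting involutions generate an elementary abelian group. -/
theorem commute_mul_sq {G : Type*} [Group G] {u v : G} (hu : orderOf u = 2) (hv : orderOf v = 2)
    (h : u * v = v * u) : (u * v) ^ 2 = 1 := by
  rw [(show Commute u v from h).mul_pow, ← hu, pow_orderOf_eq_one, hu, ← hv, pow_orderOf_eq_one,
    one_mul]

variable {G : Type*} [Group G] [Finite G] {p : ℕ} {Ω : Type*} [MulAction G Ω] (A : Action p G Ω)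
include A

/-- The involutions fixing one point commute. -/
theorem Action.commute_invol (x : Ω) {s t : G} (hs : s ∈ invMap (G := G) x x)
    (ht : t ∈ invMap (G := G) x x) : s * t = t * s := by
  classical
  haveI : Fact (Nat.Prime 2) := ⟨Nat.prime_two⟩
  haveI := Fact.mk A.setting.prime
  haveI := A.solvable x
  set H := MulAction.stabilizer G x with hH
  obtain ⟨i, rfl⟩ : ∃ i : ↥H, (i : G) = s := ⟨⟨s, hs.2⟩, rfl⟩
  obtain ⟨j, rfl⟩ : ∃ j : ↥H, (j : G) = t := ⟨⟨t, ht.2⟩, rfl⟩
  set O := Cfsg.pPrimeCore 2 ↥H with hO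
  set L := Cfsg.pPrimePCore 2 ↥H with hL
  haveI : L.Normal := Subgroup.Normal.comap inferInstance _
  -- each involution is central in a Sylow subgroup of `L` containing it
  have key : ∀ k : ↥H, (k : G) ∈ invMap (G := G) x x → ∃ P : Sylow 2 ↥L,
      k ∈ (P : Subgroup ↥L).map L.subtype ∧
        ∀ a ∈ (P : Subgroup ↥L).map L.subtype, k * a = a * k := by
    intro k hk
    set C := centralizer ({k} : Set ↥H) with hC
    have hodd : ¬ 2 ∣ C.index := by
      obtain ⟨a, ha⟩ := A.card_invMap_eq_pow x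
      rw [hC, A.index_centralizer x hk, ha]
      intro hd
      exact three_lt_ne_two A.setting.three_lt
        ((Nat.prime_dvd_prime_iff_eq Nat.prime_two A.setting.prime).1
          (Nat.prime_two.dvd_of_dvd_pow hd)).symm
    obtain ⟨T⟩ : Nonempty (Sylow 2 ↥C) := inferInstance
    set T' : Sylow 2 ↥H := (T.isPGroup'.map C.subtype).toSylow (by
      rw [index_map_subtype]
      exact fun hd => (Nat.prime_two.dvd_mul.1 hd).elim T.not_dvd_index hodd) with hT'
    have hTC : (T' : Subgroup ↥H) ≤ C := map_subtype_le _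
    set P : Sylow 2 ↥L := (T'.isPGroup'.comap_subtype (K := L)).toSylow
      (CfsgLib.Transfer.not_dvd_relIndex_of_normal T' L) with hP
    have hPeq : (P : Subgroup ↥L).map L.subtype = (T' : Subgroup ↥H) ⊓ L :=
      subgroupOf_map_subtype _ _
    have hcomm : ∀ a ∈ (P : Subgroup ↥L).map L.subtype, k * a = a * k := fun a ha =>
      (mem_centralizer_singleton_iff.1 (hTC (hPeq.le ha).1)).symm
    have hkL : k ∈ L := CfsgLib.PLocal.isPConstrained_of_isPSolvable
      CfsgLib.PLocal.isPSolvable_of_isSolvable P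
      (mem_centralizer_iff.2 fun a ha => (hcomm a ha).symm)
    have hko : orderOf k = 2 := by rw [← Subgroup.orderOf_coe]; exact hk.1
    have hkT : k ∈ (T' : Subgroup ↥H) := by
      have hle : zpowers k ≤ normalizer ((T' : Subgroup ↥H) : Set ↥H) := by
        refine zpowers_le.2 (mem_normalizer_iff_map_conj_eq.2 (eq_of_le_of_card_ge ?_
          (le_of_eq (card_map_of_injective (MulAut.conj k).injective).symm)))
        rintro _ ⟨a, ha, rfl⟩
        show k * a * k⁻¹ ∈ (T' : Subgroup ↥H)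
        rw [← mem_centralizer_singleton_iff.1 (hTC ha), mul_inv_cancel_right]
        exact ha
      have hp : IsPGroup 2 ↥(zpowers k) :=
        IsPGroup.of_card (n := 1) (by rw [Nat.card_zpowers, hko, pow_one])
      rw [← T'.is_maximal' (hp.to_sup_of_normal_right' T'.isPGroup' hle) le_sup_right]
      exact mem_sup_left (mem_zpowers _)
    exact ⟨P, hPeq.ge ⟨hkT, hkL⟩, hcomm⟩
  obtain ⟨P, hiP, hic⟩ := key i hs
  obtain ⟨Q, hjQ, -⟩ := key j ht
  obtain ⟨g, hg⟩ := MulAction.exists_smul_eq ↥L P Q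
  have hsup := CfsgLib.PLocal.sylow_pPrimePCore_sup (p := 2) (G := ↥H) P
  have hgmem : (g : ↥H) ∈ (P : Subgroup ↥L).map L.subtype ⊔ O := hsup.ge g.2
  obtain ⟨τ, hτ, o, ho, hgo⟩ := mem_sup_of_normal_right.1 hgmem
  obtain ⟨b, hb, hbj⟩ := hjQ
  rw [← hg] at hb
  obtain ⟨a, ha, hab⟩ := hb
  set T := (P : Subgroup ↥L).map L.subtype with hT
  have ha' : (a : ↥H) ∈ T := ⟨a, ha, rfl⟩
  have hab' : (b : ↥H) = (g : ↥H) * (a : ↥H) * (g : ↥H)⁻¹ := by rw [← hab]; rfl
  have hbj' : (b : ↥H) = j := hbj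
  rw [hbj', ← hgo] at hab'
  -- move the element of the core to the left
  set o' := τ * o * τ⁻¹ with ho'
  have ho'O : o' ∈ O := (inferInstance : O.Normal).conj_mem o ho τ
  have hj : j = o' * (τ * (a : ↥H) * τ⁻¹) * o'⁻¹ := by rw [hab', ho']; group
  have hjo : j * o' = o' * j := Subtype.ext (A.commute_core x ht ho'O)
  have hjT : j ∈ T := by
    have e : j = τ * (a : ↥H) * τ⁻¹ := by
      calc j = o'⁻¹ * (o' * j) := by group
        _ = o'⁻¹ * (j * o') := by rw [hjo]
        _ = o'⁻¹ * ((o' * (τ * (a : ↥H) * τ⁻¹) * o'⁻¹) * o') := by rw [← hj]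
        _ = τ * (a : ↥H) * τ⁻¹ := by group
    rw [e]
    exact mul_mem (mul_mem hτ ha') (inv_mem hτ)
  exact congrArg Subtype.val (hic j hjT)

/-- There are exactly `p` involutions at each point. -/
theorem Action.card_invMap (x : Ω) : Nat.card (invMap (G := G) x x) = p := by
  classical
  haveI : Fact (Nat.Prime 2) := ⟨Nat.prime_two⟩
  haveI := Fintype.ofFinite G
  set E : Subgroup G :=
    { carrier := {g | g = 1 ∨ g ∈ invMap (G := G) x x}
      one_mem' := Or.inl rfl
      mul_mem' := by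
        rintro a b (rfl | ha) (rfl | hb)
        · exact Or.inl (one_mul 1)
        · exact Or.inr (by rwa [one_mul])
        · exact Or.inr (by rwa [mul_one])
        · by_cases hne : a * b = 1
          · exact Or.inl hne
          · exact Or.inr ⟨orderOf_eq_prime (commute_mul_sq ha.1 hb.1 (A.commute_invol x ha hb)) hne,
              by rw [mul_smul, hb.2, ha.2]⟩
      inv_mem' := by
        rintro a (rfl | ha)
        · exact Or.inl inv_one
        · rw [inv_eq_self_of_orderOf_two ha.1]; exact Or.inr ha } with hE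
  have hE2 : IsPGroup 2 ↥E := by
    rintro ⟨g, rfl | hg⟩
    · exact ⟨0, Subtype.ext (by simp)⟩
    · exact ⟨1, Subtype.ext (by
        show g ^ 2 ^ 1 = 1
        rw [pow_one, ← hg.1, pow_orderOf_eq_one])⟩
  have hcard : Nat.card ↥E = Nat.card (invMap (G := G) x x) + 1 := by
    rw [Nat.card_coe_set_eq (invMap (G := G) x x), ← Set.ncard_insert_of_notMem (a := (1 : G))
      (fun h1 => ne_one_of_orderOf_two h1.1 rfl) (Set.toFinite _), ← Nat.card_coe_set_eq]
    rfl
  obtain ⟨k, hk⟩ := IsPGroup.iff_card.1 hE2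
  obtain ⟨a, ha⟩ := A.card_invMap_eq_pow x
  obtain ⟨B, hB, hBx⟩ := A.exists_big x
  have hBE : B ≤ E := fun b hb => by
    by_cases hb1 : b = 1
    · exact Or.inl hb1
    · exact Or.inr ⟨orderOf_eq_prime (hB.1.2 b hb) hb1, hBx hb⟩
  have h5 := hB.2.trans_le (card_le_of_le hBE)
  have hk2 : 2 ≤ k := by
    by_contra hlt
    have := Nat.pow_le_pow_right two_pos (show k ≤ 1 by omega)
    omega
  rw [hcard, ha] at hk
  rw [ha, eq_of_two_pow_eq A.setting.prime (three_lt_ne_two A.setting.three_lt) hk2 hk.symm,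
    pow_one]

/-- A `p`-element at `x` commuting with one involution at `x` commutes with all of them. -/
theorem Action.commute_all {x : Ω} {d : G} (hd : d • x = x) (hdp : ∃ i, orderOf d = p ^ i) {t : G}
    (ht : t ∈ invMap (G := G) x x) (htd : Commute d t) {s : G} (hs : s ∈ invMap (G := G) x x) :
    Commute d s := by
  haveI := Fact.mk A.setting.prime
  obtain ⟨i, hi⟩ := hdp
  have hmem : ∀ (g : ↥(zpowers d)) (j : invMap (G := G) x x),
      (g : G) * j * (g : G)⁻¹ ∈ invMap (G := G) x x := fun g j =>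
    conj_mem_invMap (zpowers_le.2 (show d ∈ MulAction.stabilizer G x from hd) g.2) j.2
  letI : MulAction ↥(zpowers d) (invMap (G := G) x x) :=
    { smul := fun g j => ⟨(g : G) * j * (g : G)⁻¹, hmem g j⟩
      one_smul := fun j => Subtype.ext (by
        show ((1 : ↥(zpowers d)) : G) * (j : G) * ((1 : ↥(zpowers d)) : G)⁻¹ = j
        simp)
      mul_smul := fun a b j => Subtype.ext (by
        show (a * b : ↥(zpowers d)) * (j : G) * ((a * b : ↥(zpowers d)) : G)⁻¹ =
          a * (b * j * (b : G)⁻¹) * (a : G)⁻¹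
        rw [Subgroup.coe_mul]; group) }
  have hfix : ∀ j : invMap (G := G) x x,
      j ∈ MulAction.fixedPoints ↥(zpowers d) (invMap (G := G) x x) ↔ Commute d j := by
    intro j
    constructor
    · intro hj
      exact mul_inv_eq_iff_eq_mul.1 (congrArg Subtype.val (hj ⟨d, mem_zpowers d⟩))
    · intro hj g
      obtain ⟨k, hk⟩ := mem_zpowers_iff.1 g.2
      refine Subtype.ext (mul_inv_eq_iff_eq_mul.2 ?_)
      rw [← hk]
      exact (hj.zpow_left k).eq
  have hmod := (IsPGroup.of_card (n := i) (by rw [Nat.card_zpowers, hi]) :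
    IsPGroup p ↥(zpowers d)).card_modEq_card_fixedPoints (invMap (G := G) x x)
  set F := MulAction.fixedPoints ↥(zpowers d) (invMap (G := G) x x) with hF
  have hpos : 0 < Nat.card F := by
    haveI : Nonempty F := ⟨⟨⟨t, ht⟩, (hfix ⟨t, ht⟩).2 htd⟩⟩
    exact Nat.card_pos
  have hp := A.card_invMap x
  rw [hp] at hmod
  have hdvd : p ∣ Nat.card F :=
    Nat.modEq_zero_iff_dvd.1 (hmod.symm.trans (Nat.modEq_zero_iff_dvd.2 dvd_rfl))
  have hle := Nat.le_of_dvd hpos hdvd
  have huniv : F = Set.univ := by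
    refine Set.eq_of_subset_of_ncard_le (Set.subset_univ _) ?_
    rw [Set.ncard_univ, hp, ← Nat.card_coe_set_eq]
    exact hle
  exact (hfix ⟨s, hs⟩).1 (huniv ▸ Set.mem_univ _)

/-- The centralizer of a `p`-element commuting with an involution at `x` fixes `x`. -/
theorem Action.centralizer_le {x : Ω} {d : G} (hd : d • x = x) (hdp : ∃ i, orderOf d = p ^ i)
    (hd1 : d ≠ 1) {t : G} (ht : t ∈ invMap (G := G) x x) (htd : Commute d t) :
    centralizer ({d} : Set G) ≤ MulAction.stabilizer G x := by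
  obtain ⟨V, hV, hVx⟩ := A.exists_four x
  refine A.le_stabilizer (A.setting.centralizer_ne_top hd1) hV (fun v hv => ?_) hVx
  by_cases hv1 : v = 1
  · rw [hv1]; exact one_mem _
  · exact mem_centralizer_singleton_iff.2
      (A.commute_all hd hdp ht htd (s := v) ⟨hV.orderOf_eq_two hv hv1, hVx hv⟩).eq.symm

/-- An odd element fixing a point is not inverted by an involution there. -/
theorem Action.eq_one_of_inverted {z : Ω} {d u : G} (hu : u ∈ invMap (G := G) z z) (hd : d • z = z)
    (hodd : Odd (orderOf d)) (hinv : u * d * u⁻¹ = d⁻¹) : d = 1 := by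
  have hu' : d * u * d⁻¹ ∈ invMap (G := G) z z :=
    conj_mem_invMap (show d ∈ MulAction.stabilizer G z from hd) hu
  have h2 := commute_mul_sq hu'.1 hu.1 (A.commute_invol z hu' hu)
  have e : d * u * d⁻¹ * u = d * d := by
    calc d * u * d⁻¹ * u = d * (u * d * u⁻¹)⁻¹ := by
          rw [show d * (u * d * u⁻¹)⁻¹ = d * u * d⁻¹ * u⁻¹ by group,
            inv_eq_self_of_orderOf_two hu.1]
      _ = d * d := by rw [hinv, inv_inv]
  rw [e] at h2
  have h4 : orderOf d ∣ 2 ^ 2 := orderOf_dvd_of_pow_eq_one (by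
    rw [show 2 ^ 2 = 2 * 2 by norm_num, pow_mul, sq d]; exact h2)
  exact orderOf_eq_one_iff.1 (Nat.eq_one_of_dvd_coprimes
    ((Nat.coprime_two_left.2 hodd).pow_left 2) h4 dvd_rfl)

theorem Action.pElem_of_pairStab {x y : Ω} (hxy : x ≠ y) {d : G} (hd : d ∈ pairStab G x y) :
    ∃ i, orderOf d = p ^ i := by
  haveI := Fact.mk A.setting.prime
  obtain ⟨i, hi⟩ := IsPGroup.iff_orderOf.1 (A.isPGroup_pairStab hxy) ⟨d, hd⟩
  exact ⟨i, by rwa [Subgroup.orderOf_mk] at hi⟩

theorem Action.odd_of_pairStab {x y : Ω} (hxy : x ≠ y) {d : G} (hd : d ∈ pairStab G x y) :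
    Odd (orderOf d) := by
  obtain ⟨i, hi⟩ := A.pElem_of_pairStab hxy hd
  rw [hi]
  exact (A.setting.prime.odd_of_ne_two (three_lt_ne_two A.setting.three_lt)).pow

/-- An element of a two point stabilizer commuting with involutions at both points is trivial. -/
theorem Action.eq_one_of_commute_both {x y : Ω} (hxy : x ≠ y) {d : G} (hd : d ∈ pairStab G x y)
    {t : G} (ht : t ∈ invMap (G := G) x x) (htd : Commute d t) {s : G}
    (hs : s ∈ invMap (G := G) y y) (hsd : Commute d s) : d = 1 := by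
  by_contra hd1
  have hp := A.pElem_of_pairStab hxy hd
  have h1 := A.centralizer_le (mem_pairStab.1 hd).1 hp hd1 ht htd
    (mem_centralizer_singleton_iff.2 hsd.eq.symm : s ∈ _)
  exact hxy (A.fix.unique s hs.1 x y h1 hs.2)

/-- A two point stabilizer is commutative. -/
theorem Action.comm_pairStab {x y : Ω} (hxy : x ≠ y) {a b : G} (ha : a ∈ pairStab G x y)
    (hb : b ∈ pairStab G x y) : a * b = b * a := by
  haveI := Fact.mk A.setting.prime
  have hp2 : p ≠ 2 := three_lt_ne_two A.setting.three_lt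
  have key : ∀ {x y : Ω}, x ≠ y → ∀ {a b : G}, a ∈ pairStab G x y → b ∈ pairStab G x y →
      ∀ t ∈ invMap (G := G) x x, Commute ((a * b)⁻¹ * (b * a)) t := by
    intro x y hxy a b ha hb t ht
    set D := pairStab G x y with hD
    letI : MulAction ↥D (invMap (G := G) x x) :=
      { smul := fun d i => ⟨(d : G) * i * (d : G)⁻¹,
          conj_mem_invMap (show (d : G) ∈ MulAction.stabilizer G x from (mem_pairStab.1 d.2).1) i.2⟩
        one_smul := fun i => Subtype.ext (by
          show ((1 : ↥D) : G) * (i : G) * ((1 : ↥D) : G)⁻¹ = i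
          simp)
        mul_smul := fun c e i => Subtype.ext (by
          show (c * e : ↥D) * (i : G) * ((c * e : ↥D) : G)⁻¹ = c * (e * i * (e : G)⁻¹) * (c : G)⁻¹
          rw [Subgroup.coe_mul]; group) }
    let φ := MulAction.toPermHom ↥D (invMap (G := G) x x)
    have hker : MulAction.stabilizer ↥D (⟨t, ht⟩ : invMap (G := G) x x) = φ.ker := by
      ext d
      rw [MulAction.mem_stabilizer_iff, MonoidHom.mem_ker]
      constructor
      · intro h
        refine Equiv.ext fun i => Subtype.ext (mul_inv_eq_iff_eq_mul.2 ?_)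
        exact (A.commute_all (mem_pairStab.1 d.2).1 (A.pElem_of_pairStab hxy d.2) ht
          (mul_inv_eq_iff_eq_mul.1 (congrArg Subtype.val h)) i.2).eq
      · intro h
        exact congrArg (fun σ : Equiv.Perm (invMap (G := G) x x) => σ ⟨t, ht⟩) h
    have hrange : Nat.card ↥φ.range = p := by
      have htop : MulAction.orbit ↥D (⟨t, ht⟩ : invMap (G := G) x x) = Set.univ := by
        rw [Set.eq_univ_iff_forall]
        intro i
        obtain ⟨d, hd, hdi⟩ := exists_conj_fix A.fix hxy ht i.2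
        exact ⟨⟨d, hd⟩, Subtype.ext hdi⟩
      rw [← index_ker, ← hker, MulAction.index_stabilizer, htop, Set.ncard_univ, A.card_invMap x]
    haveI := isCyclic_of_prime_card hrange
    have hc : φ ⟨a, ha⟩ * φ ⟨b, hb⟩ = φ ⟨b, hb⟩ * φ ⟨a, ha⟩ :=
      congrArg Subtype.val (IsCyclic.commGroup.mul_comm
        (⟨φ ⟨a, ha⟩, _, rfl⟩ : ↥φ.range) ⟨φ ⟨b, hb⟩, _, rfl⟩)
    have h1 : φ ((⟨a, ha⟩ * ⟨b, hb⟩)⁻¹ * (⟨b, hb⟩ * ⟨a, ha⟩)) = 1 := by
      simp only [map_mul, map_inv, hc, inv_mul_cancel]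
    exact mul_inv_eq_iff_eq_mul.1 (congrArg Subtype.val
      (congrArg (fun σ : Equiv.Perm (invMap (G := G) x x) => σ ⟨t, ht⟩) h1))
  obtain ⟨t, ht⟩ := A.fix.exists_inv x
  obtain ⟨s, hs⟩ := A.fix.exists_inv y
  have h := A.eq_one_of_commute_both hxy
    (mul_mem (inv_mem (mul_mem ha hb)) (mul_mem hb ha)) ht (key hxy ha hb t ht) hs
    (key hxy.symm (pairStab_symm (G := G) x y ▸ ha) (pairStab_symm (G := G) x y ▸ hb) s hs)
  exact inv_mul_eq_one.1 h

theorem Action.exists_swap {x y : Ω} (hxy : x ≠ y) : ∃ u, u ∈ invMap (G := G) x y := by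
  obtain ⟨t, ht, htx⟩ := A.fix.exists_inv x
  obtain ⟨s, hs, hsy⟩ := A.fix.exists_inv y
  obtain ⟨u, hu, -⟩ := exists_interchange A.fix ht hs htx hsy hxy
  exact ⟨u, hu⟩

omit [Finite G] A in
theorem conj_swap_mem {x y : Ω} {u d : G} (hu : u ∈ invMap (G := G) x y)
    (hd : d ∈ pairStab G x y) : u * d * u⁻¹ ∈ pairStab G x y := by
  obtain ⟨hdx, hdy⟩ := mem_pairStab.1 hd
  have huy := smul_back hu.1 hu.2
  rw [inv_eq_self_of_orderOf_two hu.1]
  exact mem_pairStab.2 ⟨by rw [mul_smul, mul_smul, hu.2, hdy, huy],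
    by rw [mul_smul, mul_smul, huy, hdx, hu.2]⟩

/-- No nontrivial element of a two point stabilizer commutes with an involution at either point. -/
theorem Action.eq_one_of_commute_left {x y : Ω} (hxy : x ≠ y) {j : G} (hj : j ∈ pairStab G x y)
    {t : G} (ht : t ∈ invMap (G := G) x x) (htj : Commute j t) : j = 1 := by
  obtain ⟨u, hu⟩ := A.exists_swap hxy
  have huu := mul_self_of_orderOf_two hu.1
  have hui := inv_eq_self_of_orderOf_two hu.1
  set j' := u * j * u⁻¹ with hj'
  have hj'D : j' ∈ pairStab G x y := conj_swap_mem hu hj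
  have hs : u * t * u⁻¹ ∈ invMap (G := G) y y := interchange_conj_mem ht hu
  have hj's : Commute j' (u * t * u⁻¹) := htj.map (MulAut.conj u).toMonoidHom
  suffices heq : j = j' by
    rw [← heq] at hj's
    exact A.eq_one_of_commute_both hxy hj ht htj hs hj's
  set w := j * j' with hw
  have hcomm := A.comm_pairStab hxy hj hj'D
  have huw : Commute w u := by
    refine (mul_inv_eq_iff_eq_mul.1 ?_ : u * w = w * u).symm
    calc u * w * u⁻¹ = j' * (u * (u * j * u⁻¹) * u⁻¹) := by rw [hw, hj']; group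
      _ = j' * ((u * u) * j * (u * u)⁻¹) := by group
      _ = w := by rw [huu, one_mul, inv_one, mul_one, hw, hcomm]
  by_cases hw1 : w = 1
  · have e : j' = j⁻¹ := eq_inv_of_mul_eq_one_right hw1
    rw [e] at hj's
    have hj1 := A.eq_one_of_commute_both hxy hj ht htj hs (by simpa using hj's.inv_left)
    rw [hj', hj1, mul_one, mul_inv_cancel]
  obtain ⟨z, hz⟩ := A.fix.exists_fix u hu.1
  have hwz : w • z = z := commute_fix A.fix hu.1 huw hz
  have hwD : w ∈ pairStab G x y := mul_mem hj hj'D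
  have hCw := A.centralizer_le hwz (A.pElem_of_pairStab hxy hwD) hw1 (t := u) ⟨hu.1, hz⟩ huw
  have hjz : j • z = z :=
    hCw (mem_centralizer_singleton_iff.2 (A.comm_pairStab hxy hj hwD))
  have hj'z : j' • z = z :=
    hCw (mem_centralizer_singleton_iff.2 (A.comm_pairStab hxy hj'D hwD))
  have hinv : u * (j * j'⁻¹) * u⁻¹ = (j * j'⁻¹)⁻¹ := by
    calc u * (j * j'⁻¹) * u⁻¹ = (u * j * u⁻¹) * (u * (u * j * u⁻¹) * u⁻¹)⁻¹ := by rw [hj']; group
      _ = j' * ((u * u) * j * (u * u)⁻¹)⁻¹ := by rw [hj']; group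
      _ = _ := by rw [huu, one_mul, inv_one, mul_one, mul_inv_rev, inv_inv]
  exact mul_inv_eq_one.1 (A.eq_one_of_inverted (z := z) ⟨hu.1, hz⟩
    (by rw [mul_smul, inv_smul_eq_iff.2 hj'z.symm, hjz])
    (A.odd_of_pairStab hxy (mul_mem hj (inv_mem hj'D))) hinv)

/-- A nontrivial element fixing two points commutes with no involution. -/
theorem Action.eq_one_of_commute {x y : Ω} (hxy : x ≠ y) {d : G} (hd : d ∈ pairStab G x y)
    {r : G} (hr : orderOf r = 2) (hrd : Commute d r) : d = 1 := by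
  obtain ⟨z, hz⟩ := A.fix.exists_fix r hr
  have hdz : d • z = z := commute_fix A.fix hr hrd hz
  by_cases hzx : z = x
  · subst hzx
    exact A.eq_one_of_commute_left hxy hd ⟨hr, hz⟩ hrd
  · exact A.eq_one_of_commute_left (y := x) hzx
      (mem_pairStab.2 ⟨hdz, (mem_pairStab.1 hd).1⟩) ⟨hr, hz⟩ hrd

/-- A two point stabilizer has order `p`. -/
theorem Action.card_pairStab {x y : Ω} (hxy : x ≠ y) : Nat.card ↥(pairStab G x y) = p := by
  set D := pairStab G x y with hD
  letI : MulAction ↥D (invMap (G := G) x x) :=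
    { smul := fun d i => ⟨(d : G) * i * (d : G)⁻¹,
        conj_mem_invMap (show (d : G) ∈ MulAction.stabilizer G x from (mem_pairStab.1 d.2).1) i.2⟩
      one_smul := fun i => Subtype.ext (by
        show ((1 : ↥D) : G) * (i : G) * ((1 : ↥D) : G)⁻¹ = i
        simp)
      mul_smul := fun c e i => Subtype.ext (by
        show (c * e : ↥D) * (i : G) * ((c * e : ↥D) : G)⁻¹ = c * (e * i * (e : G)⁻¹) * (c : G)⁻¹
        rw [Subgroup.coe_mul]; group) }
  obtain ⟨t, ht⟩ := A.fix.exists_inv x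
  let t' : invMap (G := G) x x := ⟨t, ht⟩
  have hst : MulAction.stabilizer ↥D t' = ⊥ := by
    refine (eq_bot_iff_forall _).2 fun d hd => Subtype.ext ?_
    exact A.eq_one_of_commute hxy d.2 ht.1 (mul_inv_eq_iff_eq_mul.1 (congrArg Subtype.val hd))
  have htop : MulAction.orbit ↥D t' = Set.univ := by
    rw [Set.eq_univ_iff_forall]
    intro i
    obtain ⟨d, hd, hdi⟩ := exists_conj_fix A.fix hxy t'.2 i.2
    exact ⟨⟨d, hd⟩, Subtype.ext hdi⟩
  rw [← index_bot, ← hst, MulAction.index_stabilizer, htop, Set.ncard_univ, A.card_invMap x]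

/-- An interchanging involution inverts the two point stabilizer. -/
theorem Action.inverts {x y : Ω} (hxy : x ≠ y) {u : G} (hu : u ∈ invMap (G := G) x y) {d : G}
    (hd : d ∈ pairStab G x y) : u * d * u⁻¹ = d⁻¹ := by
  have huu := mul_self_of_orderOf_two hu.1
  set d' := u * d * u⁻¹ with hd'
  have hd'D := conj_swap_mem hu hd
  have hcomm := A.comm_pairStab hxy hd hd'D
  have huw : Commute (d * d') u := by
    refine (mul_inv_eq_iff_eq_mul.1 ?_ : u * (d * d') = d * d' * u).symm
    calc u * (d * d') * u⁻¹ = d' * ((u * u) * d * (u * u)⁻¹) := by rw [hd']; group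
      _ = d * d' := by rw [huu, one_mul, inv_one, mul_one, hcomm]
  exact eq_inv_of_mul_eq_one_right (A.eq_one_of_commute hxy (mul_mem hd hd'D) hu.1 huw)

/-- A two point stabilizer contains the centralizer of each of its nontrivial elements. -/
theorem Action.centralizer_le_pairStab {x y : Ω} (hxy : x ≠ y) {d : G} (hd : d ∈ pairStab G x y)
    (hd1 : d ≠ 1) : centralizer ({d} : Set G) ≤ pairStab G x y := by
  suffices key : ∀ {x y : Ω}, x ≠ y → d ∈ pairStab G x y → ∀ c ∈ centralizer ({d} : Set G),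
      c • x = x from fun c hc => mem_pairStab.2
    ⟨key hxy hd c hc, key hxy.symm (pairStab_symm (G := G) x y ▸ hd) c hc⟩
  intro x y hxy hd c hc
  by_contra hne
  have hdx := (mem_pairStab.1 hd).1
  have hdcx : d • c • x = c • x := by
    rw [smul_smul, ← mem_centralizer_singleton_iff.1 hc, mul_smul, hdx]
  have hdD : d ∈ pairStab G x (c • x) := mem_pairStab.2 ⟨hdx, hdcx⟩
  obtain ⟨u, hu⟩ := A.exists_swap (Ne.symm hne)
  have hinv := A.inverts (Ne.symm hne) hu hdD
  refine no_swap A.fix hu.1 hinv (fun z hz huz => hd1 ?_) hdx hc hu.2.symm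
  exact A.eq_one_of_inverted ⟨hu.1, huz⟩ hz (A.odd_of_pairStab hxy hd) hinv

/-- The Sylow `p`-subgroups have order `p` and are their own centralizers. -/
theorem Action.sylow_facts [Fact p.Prime] (Q : Sylow p G) :
    Nat.card ↥(Q : Subgroup G) = p ∧
      (∀ q ∈ (Q : Subgroup G), q ≠ 1 → centralizer ({q} : Set G) ≤ (Q : Subgroup G)) ∧
      2 * p ∣ Nat.card ↥(normalizer ((Q : Subgroup G) : Set G)) := by
  haveI := A.nontrivial
  obtain ⟨t, ht⟩ := CfsgLib.Small.exists_invol_mem (K := (⊤ : Subgroup G))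
    (by rw [card_top]; exact A.setting.even)
  obtain ⟨x, -⟩ := A.fix.exists_fix t ht.2
  obtain ⟨y, hy⟩ := exists_ne x
  have hxy := hy.symm
  set D := pairStab G x y with hD
  have hDc := A.card_pairStab hxy
  obtain ⟨P, hP⟩ := (A.isPGroup_pairStab hxy).exists_le_sylow
  have hp1 := A.setting.prime.one_lt
  have hPD : (P : Subgroup G) = D := by
    have hPne : (P : Subgroup G) ≠ ⊥ := fun e => by
      have := card_le_of_le hP
      rw [e, card_bot, hDc] at this
      omega
    obtain ⟨z, hzP, hzo, hzc⟩ :=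
      CfsgLib.Inv53.exists_orderOf_eq_central P.isPGroup' hPne
    obtain ⟨d, hd, hd1⟩ : ∃ d ∈ D, d ≠ 1 := by
      rcases D.bot_or_exists_ne_one with e | h
      · rw [show pairStab G x y = ⊥ from e, card_bot] at hDc; omega
      · exact h
    have hzD : z ∈ D := A.centralizer_le_pairStab hxy hd hd1
      (mem_centralizer_singleton_iff.2 (hzc d (hP hd)).symm)
    refine le_antisymm (fun q hq => A.centralizer_le_pairStab hxy hzD ?_ ?_) hP
    · intro e
      rw [e, orderOf_one] at hzo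
      omega
    · exact mem_centralizer_singleton_iff.2 (hzc q hq)
  obtain ⟨g, hg⟩ := MulAction.exists_smul_eq G P Q
  have hQ : (Q : Subgroup G) = D.map (MulAut.conj g).toMonoidHom := by
    rw [← hg, ← hPD]; rfl
  have hcard : Nat.card ↥(Q : Subgroup G) = p := by
    rw [hQ, card_map_of_injective (MulAut.conj g).injective, hDc]
  refine ⟨hcard, ?_, ?_⟩
  · intro q hq hq1 c hc
    rw [hQ] at hq ⊢
    obtain ⟨d, hd, rfl⟩ := hq
    have hd1 : d ≠ 1 := fun e => hq1 (by rw [e, map_one])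
    refine ⟨g⁻¹ * c * g, A.centralizer_le_pairStab hxy hd hd1 ?_, by simp [mul_assoc]⟩
    have h1 := ZCGroup.conj_mem_centralizer (g := g⁻¹) hc
    simpa [mul_assoc] using h1
  · obtain ⟨u, hu⟩ := A.exists_swap hxy
    set v := g * u * g⁻¹ with hv
    have hvN : v ∈ normalizer ((Q : Subgroup G) : Set G) := by
      rw [hQ]
      refine mem_normalizer_iff_map_conj_eq.2 (eq_of_le_of_card_ge ?_
        (le_of_eq (card_map_of_injective (MulAut.conj v).injective).symm))
      rintro _ ⟨_, ⟨d, hd, rfl⟩, rfl⟩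
      refine ⟨u * d * u⁻¹, conj_swap_mem hu hd, ?_⟩
      simp [hv, mul_assoc]
    have h2 : 2 ∣ Nat.card ↥(normalizer ((Q : Subgroup G) : Set G)) := by
      have ho : orderOf v = 2 := by rw [hv, orderOf_conj_eq]; exact hu.1
      exact ho ▸ Subgroup.orderOf_dvd_natCard _ hvN
    have hpd : p ∣ Nat.card ↥(normalizer ((Q : Subgroup G) : Set G)) :=
      hcard.symm.dvd.trans (card_dvd_of_le le_normalizer)
    exact ((Nat.coprime_primes Nat.prime_two A.setting.prime).2
      (Ne.symm (three_lt_ne_two A.setting.three_lt))).mul_dvd_of_dvd_of_dvd h2 hpd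

/-- The contradiction. -/
theorem Action.contradiction : False := by
  classical
  haveI := Fact.mk A.setting.prime
  haveI := A.nontrivial
  haveI := finite_points A.fix
  haveI := Fintype.ofFinite Ω
  haveI := Fintype.ofFinite G
  have hp3 := A.setting.three_lt
  have hp2 := three_lt_ne_two hp3
  obtain ⟨x, y, hxy⟩ := exists_pair_ne Ω
  set n := Nat.card Ω with hn
  -- the pairs of involutions with different fixed points
  let P2 := Σ q : {q : Ω × Ω // q.1 ≠ q.2}, invMap (G := G) q.1.1 q.1.1 × invMap (G := G) q.1.2 q.1.2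
  have hoff : Nat.card {q : Ω × Ω // q.1 ≠ q.2} = n * (n - 1) := by
    let e : {q : Ω × Ω // q.1 ≠ q.2} ≃ Σ a : Ω, {b : Ω // b ≠ a} :=
      { toFun := fun q => ⟨q.1.1, q.1.2, q.2.symm⟩
        invFun := fun q => ⟨(q.1, q.2.1), q.2.2.symm⟩
        left_inv := fun q => rfl
        right_inv := fun q => rfl }
    rw [Nat.card_congr e, Nat.card_eq_fintype_card, Fintype.card_sigma]
    simp only [ne_eq, Fintype.card_subtype_compl, Fintype.card_subtype_eq, Finset.sum_const,
      Finset.card_univ, smul_eq_mul]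
    rw [hn, Nat.card_eq_fintype_card]
  have hP2 : Nat.card P2 = n * (n - 1) * (p * p) := by
    rw [Nat.card_sigma]
    simp only [Nat.card_prod, A.card_invMap, Finset.sum_const, Finset.card_univ, smul_eq_mul]
    rw [← Nat.card_eq_fintype_card, hoff]
  -- nontrivial `p`-elements
  let PEl := {w : G // w ≠ 1 ∧ ∃ i, orderOf w = p ^ i}
  have hsyl : ∀ w : PEl, ∃ Q : Sylow p G, (w : G) ∈ (Q : Subgroup G) := by
    rintro ⟨w, -, i, hi⟩
    obtain ⟨Q, hQ⟩ := (IsPGroup.of_card (n := i) (by rw [Nat.card_zpowers, hi]) :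
      IsPGroup p ↥(zpowers w)).exists_le_sylow
    exact ⟨Q, hQ (mem_zpowers w)⟩
  choose Qw hQw using hsyl
  have hPEl : Nat.card PEl ≤ Nat.card (Sylow p G) * (p - 1) := by
    let f : PEl → Σ Q : Sylow p G, {a : ↥(Q : Subgroup G) // a ≠ 1} := fun w =>
      ⟨Qw w, ⟨⟨w, hQw w⟩, fun e => w.2.1 (congrArg Subtype.val e)⟩⟩
    have hf : Function.Injective f := fun a b e => Subtype.ext
      (congrArg (fun z : Σ Q : Sylow p G, {a : ↥(Q : Subgroup G) // a ≠ 1} => ((z.2.1 : G))) e :)
    refine (Nat.card_le_card_of_injective f hf).trans (le_of_eq ?_)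
    haveI := Fintype.ofFinite (Sylow p G)
    rw [Nat.card_sigma, Finset.sum_const_nat (m := p - 1) fun Q _ => ?_, Finset.card_univ,
      Nat.card_eq_fintype_card]
    rw [Nat.card_eq_fintype_card, Fintype.card_subtype_compl, Fintype.card_subtype_eq,
      ← Nat.card_eq_fintype_card, (A.sylow_facts Q).1]
  -- at most `p` involutions invert each of them
  let Inv : PEl → Set G := fun w => {s | orderOf s = 2 ∧ s * w * s⁻¹ = (w : G)⁻¹}
  have hInv : ∀ w : PEl, Nat.card (Inv w) ≤ p := by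
    intro w
    by_cases hne : Nonempty (Inv w)
    swap
    · haveI : IsEmpty (Inv w) := not_nonempty_iff.1 hne
      rw [Nat.card_of_isEmpty]; omega
    obtain ⟨s₀, hs₀, hs₀w⟩ := hne
    have hle := (A.sylow_facts (Qw w)).2.1 _ (hQw w) w.2.1
    have hmem : ∀ s : Inv w, s₀ * (s : G) ∈ ((Qw w) : Subgroup G) := by
      rintro ⟨s, hs, hsw⟩
      refine hle (mem_centralizer_singleton_iff.2 (mul_inv_eq_iff_eq_mul.1 ?_))
      calc s₀ * s * (w : G) * (s₀ * s)⁻¹ = s₀ * (s * (w : G) * s⁻¹) * s₀⁻¹ := by group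
        _ = (s₀ * (w : G) * s₀⁻¹)⁻¹ := by rw [hsw]; group
        _ = (w : G) := by rw [hs₀w, inv_inv]
    refine le_trans (Nat.card_le_card_of_injective
      (fun s => (⟨s₀ * (s : G), hmem s⟩ : ↥((Qw w) : Subgroup G)))
      fun a b e => Subtype.ext (mul_left_cancel (congrArg Subtype.val e))) ?_
    rw [(A.sylow_facts (Qw w)).1]
  -- the products
  have hprod : ∀ q : P2, (q.2.1 : G) * q.2.2 ≠ 1 ∧ (∃ i, orderOf ((q.2.1 : G) * q.2.2) = p ^ i) ∧
      (q.2.1 : G) * ((q.2.1 : G) * q.2.2) * (q.2.1 : G)⁻¹ = ((q.2.1 : G) * q.2.2)⁻¹ := by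
    rintro ⟨⟨⟨a, b⟩, hab⟩, ⟨s, hs⟩, ⟨t, ht⟩⟩
    simp only
    have hinv : s * (s * t) * s⁻¹ = (s * t)⁻¹ := by
      rw [mul_inv_rev, inv_eq_self_of_orderOf_two hs.1, inv_eq_self_of_orderOf_two ht.1,
        ← mul_assoc, mul_self_of_orderOf_two hs.1, one_mul]
    refine ⟨fun e => hab (A.fix.unique s hs.1 a b hs.2 ?_),
      exists_primePow_of_inverted A.setting.prime hp2 A.setting.nil hs.1
        (odd_mul A.fix hs.1 ht.1 hs.2 ht.2 hab) hinv, hinv⟩
    rw [show s = t by rw [← inv_eq_self_of_orderOf_two ht.1]; exact eq_inv_of_mul_eq_one_left e]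
    exact ht.2
  let f : P2 → Σ w : PEl, Inv w := fun q =>
    ⟨⟨(q.2.1 : G) * q.2.2, (hprod q).1, (hprod q).2.1⟩, q.2.1, q.2.1.2.1, (hprod q).2.2⟩
  have hf : Function.Injective f := by
    rintro ⟨⟨⟨a, b⟩, hab⟩, ⟨s, hs⟩, ⟨t, ht⟩⟩ ⟨⟨⟨a', b'⟩, hab'⟩, ⟨s', hs'⟩, ⟨t', ht'⟩⟩ e
    have e1 : s * t = s' * t' := congrArg (fun z : Σ w : PEl, Inv w => (z.1 : G)) e
    have e2 : s = s' := congrArg (fun z : Σ w : PEl, Inv w => (z.2 : G)) e
    subst e2
    obtain rfl : t = t' := mul_left_cancel e1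
    obtain rfl : a = a' := A.fix.unique s hs.1 a a' hs.2 hs'.2
    obtain rfl : b = b' := A.fix.unique t ht.1 b b' ht.2 ht'.2
    rfl
  haveI := Fintype.ofFinite PEl
  have h1 : n * (n - 1) * (p * p) ≤ Nat.card PEl * p := by
    rw [← hP2]
    refine (Nat.card_le_card_of_injective f hf).trans ?_
    rw [Nat.card_sigma]
    refine (Finset.sum_le_card_nsmul _ _ p fun w _ => hInv w).trans (le_of_eq ?_)
    rw [Finset.card_univ, smul_eq_mul, Nat.card_eq_fintype_card]
  -- the orders
  have hG : Nat.card G = n * Nat.card ↥(MulAction.stabilizer G x) := by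
    rw [← index_mul_card (MulAction.stabilizer G x), MulAction.index_stabilizer,
      show MulAction.orbit G x = Set.univ from Set.eq_univ_iff_forall.2 fun z =>
        let ⟨g, hg⟩ := A.fix.transitive x z; ⟨g, hg⟩, Set.ncard_univ, hn]
  have hH : Nat.card ↥(MulAction.stabilizer G x) ≤ (n - 1) * p := by
    set H := MulAction.stabilizer G x with hH
    have hst : MulAction.stabilizer ↥H y = (pairStab G x y).subgroupOf H := by
      ext h
      exact ⟨fun e => mem_pairStab.2 ⟨h.2, e⟩, fun e => (mem_pairStab.1 e).2⟩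
    rw [← index_mul_card (MulAction.stabilizer ↥H y), MulAction.index_stabilizer, hst,
      Nat.card_congr (subgroupOfEquivOfLe (show pairStab G x y ≤ H from inf_le_left)).toEquiv,
      A.card_pairStab hxy]
    refine Nat.mul_le_mul_right p ?_
    have hsub : MulAction.orbit ↥H y ⊆ Set.univ \ {x} := by
      rintro _ ⟨h, rfl⟩
      refine ⟨Set.mem_univ _, fun e => ?_⟩
      have e' : (h : G) • y = x := e
      have hx' : (h : G) • x = x := h.2
      exact hxy (MulAction.injective (h : G) (hx'.trans e'.symm))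
    refine (Set.ncard_le_ncard hsub (Set.toFinite _)).trans (le_of_eq ?_)
    rw [Set.ncard_sdiff_singleton_of_mem (Set.mem_univ x), Set.ncard_univ, hn]
  obtain ⟨Q⟩ : Nonempty (Sylow p G) := inferInstance
  have hN : Nat.card (Sylow p G) * (2 * p) ≤ Nat.card G := by
    rw [Q.card_eq_index_normalizer, ← index_mul_card (normalizer ((Q : Subgroup G) : Set G))]
    exact Nat.mul_le_mul le_rfl (Nat.le_of_dvd Nat.card_pos (A.sylow_facts Q).2.2)
  have hn1 : 0 < n * (n - 1) := by
    have h2 : 1 < n := Finite.one_lt_card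
    exact Nat.mul_pos (by omega) (by omega)
  set N := n * (n - 1) with hNdef
  have h2 : Nat.card (Sylow p G) * (2 * p) ≤ N * p := by
    refine hN.trans ?_
    rw [hG, hNdef, mul_assoc]
    exact Nat.mul_le_mul_left n hH
  have h4 : N * (p * p) * (2 * p) ≤ (p - 1) * p * (N * p) :=
    calc N * (p * p) * (2 * p) ≤ Nat.card PEl * p * (2 * p) := Nat.mul_le_mul_right _ h1
      _ ≤ Nat.card (Sylow p G) * (p - 1) * p * (2 * p) :=
        Nat.mul_le_mul_right _ (Nat.mul_le_mul_right _ hPEl)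
      _ = (p - 1) * p * (Nat.card (Sylow p G) * (2 * p)) := by ring
      _ ≤ (p - 1) * p * (N * p) := Nat.mul_le_mul_left _ h2
  have h5 : (N * (p * p)) * (2 * p) ≤ (N * (p * p)) * (p - 1) := h4.trans (le_of_eq (by ring))
  have := Nat.le_of_mul_le_mul_left h5 (Nat.mul_pos hn1 (Nat.mul_pos (by omega) (by omega)))
  omega

end CfsgLib.CoprimeNilpotent
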