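import Cfsg.Agent.CoprimeNilpotent.Local
import Cfsg.Agent.S0505
import Cfsg.Agent.S3756

/-!
# A strongly embedded subgroup

Every involution of a Sylow 2-subgroup `S` commutes with a big elementary subgroup of a linked
Sylow subgroup (`exists_big_pair`), so all these centralizers normalize `W`.  If `W ≠ 1` then
`N(W)` is strongly embedded; if `W = 1` all cores are trivial, `G` has characteristic two type with
solvable `S₄`-free 2-locals, and a maximal one is strongly embedded.
-/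

set_option autoImplicit false
set_option linter.style.haveILetI false

namespace CfsgLib.CoprimeNilpotent

open Subgroup CfsgLib.ZCGroup
open scoped Pointwise

variable {G : Type*} [Group G] [Finite G] {p : ℕ}

omit [Finite G] in
theorem Setting.normalizer_ne_top (s : Setting p G) {K : Subgroup G} (h1 : K ≠ ⊥) (h2 : K ≠ ⊤) :
    normalizer (K : Set G) ≠ ⊤ := by
  intro h
  haveI := s.simple
  haveI : K.Normal := normalizer_eq_top_iff.1 h
  rcases (inferInstance : K.Normal).eq_bot_or_eq_top with e | e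
  exacts [h1 e, h2 e]

omit [Finite G] in
theorem map_mul_self {K : Type*} [Group K] (f : K →* G) {E : Subgroup K}
    (h : ∀ e ∈ E, e * e = 1) : ∀ x ∈ E.map f, x * x = 1 := by
  rintro _ ⟨e, he, rfl⟩
  rw [← map_mul, h e he, map_one]

/-- An involution of the centre of a Sylow 2-subgroup and any involution commuting with it are
centralized by a common elementary abelian group of order eight. -/
theorem Setting.exists_big_pair (s : Setting p G) {z t : G} (hz : orderOf z = 2)
    (ht : orderOf t = 2) (hzt : t ≠ z) (hc : t * z = z * t) :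
    ∃ E : Subgroup G, IsBig E ∧ E ≤ centralizer ({z} : Set G) ∧
      E ≤ centralizer ({t} : Set G) := by
  haveI : Fact (Nat.Prime 2) := ⟨Nat.prime_two⟩
  set CV := centralizer ({z} : Set G) ⊓ centralizer ({t} : Set G) with hCV
  by_contra hno
  push Not at hno
  have hnoV : ∀ E : Subgroup G, IsBig E → ¬ E ≤ CV := fun E hE hle =>
    hno E hE (hle.trans inf_le_left) (hle.trans inf_le_right)
  obtain ⟨R⟩ : Nonempty (Sylow 2 ↥CV) := inferInstance
  set RG := (R : Subgroup ↥CV).map CV.subtype with hRG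
  have hRp : IsPGroup 2 ↥RG := R.isPGroup'.map _
  have hRCV : RG ≤ CV := map_subtype_le _
  -- a 2-subgroup of `C(z, t)` containing `R` equals it
  have hmax : ∀ Q : Subgroup G, IsPGroup 2 ↥Q → RG ≤ Q → Q ≤ CV → Q ≤ RG := by
    intro Q hQ hRQ hQC x hx
    refine ⟨⟨x, hQC hx⟩, ?_, rfl⟩
    rw [← R.is_maximal' (hQ.comap_subtype (K := CV)) (fun y hy => hRQ ⟨y, hy, rfl⟩)]
    exact hx
  have hzCV : z ∈ CV :=
    ⟨mem_centralizer_singleton_iff.2 rfl, mem_centralizer_singleton_iff.2 hc.symm⟩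
  have htCV : t ∈ CV :=
    ⟨mem_centralizer_singleton_iff.2 hc, mem_centralizer_singleton_iff.2 rfl⟩
  have hcentR : ∀ a : G, orderOf a = 2 → a ∈ CV → (∀ r ∈ CV, r * a = a * r) → a ∈ RG := by
    intro a ha haC hcomm
    refine hmax (zpowers a ⊔ RG) ((ZCGroup.isPGroup_zpowers_of_orderOf ha).to_sup_of_normal_right'
      hRp (zpowers_le.2 (mem_normalizer_iff_map_conj_eq.2 (eq_of_le_of_card_ge ?_
        (le_of_eq (card_map_of_injective (K := RG) (MulAut.conj a).injective).symm)))))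
      le_sup_right (sup_le (zpowers_le.2 haC) hRCV) (mem_sup_left (mem_zpowers a))
    rintro _ ⟨r, hr, rfl⟩
    show a * r * a⁻¹ ∈ RG
    rwa [← hcomm r (hRCV hr), mul_inv_cancel_right]
  have hzR : z ∈ RG := hcentR z hz hzCV fun r hr => mem_centralizer_singleton_iff.1 hr.1
  have htR : t ∈ RG := hcentR t ht htCV fun r hr => mem_centralizer_singleton_iff.1 hr.2
  set V := Cfsg.omegaOne 2 (RG ⊓ centralizer (RG : Set G)) with hV
  have hVe : Cfsg.IsElementaryAbelian 2 V := CfsgLib.PLocal.isElementaryAbelian_omegaOne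
    ⟨⟨fun a b => Subtype.ext (mem_centralizer_iff.1 b.2.2 _ a.2.1)⟩⟩
  have hVR : V ≤ RG := (CfsgLib.PLocal.omegaOne_le _ _).trans inf_le_left
  have hV4 : Nat.card V ≤ 4 := by
    by_contra hlt
    exact hnoV V ⟨hVe, by omega⟩ (hVR.trans hRCV)
  have hzz := ZCGroup.mul_self_of_orderOf hz
  have htt := ZCGroup.mul_self_of_orderOf ht
  have hzV : z ∈ V := CfsgLib.PLocal.mem_omegaOne ⟨hzR, mem_centralizer_iff.2 fun r hr =>
    mem_centralizer_singleton_iff.1 (hRCV hr).1⟩ (by rw [sq]; exact hzz)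
  have htV : t ∈ V := CfsgLib.PLocal.mem_omegaOne ⟨htR, mem_centralizer_iff.2 fun r hr =>
    mem_centralizer_singleton_iff.1 (hRCV hr).2⟩ (by rw [sq]; exact htt)
  set Vs := CfsgLib.Classification.fourSpan z t hzz htt hc.symm with hVs
  have hVeq : Vs = V := by
    refine eq_of_le_of_card_ge ?_ ?_
    · intro x hx
      rcases CfsgLib.Classification.mem_fourSpan.1 hx with rfl | rfl | rfl | rfl
      exacts [one_mem _, hzV, htV, mul_mem hzV htV]
    · rw [(CfsgLib.Classification.isKleinFour_fourSpan hzz htt hc.symm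
        (ZCGroup.ne_one_of_orderOf hz) (ZCGroup.ne_one_of_orderOf ht) (Ne.symm hzt)).card_four]
      exact hV4
  -- `R` grows in `C(a)` by an element moving the other involution
  have grow : ∀ a b : G, orderOf a = 2 → a ∈ V → b ∈ V →
      CV = centralizer ({a} : Set G) ⊓ centralizer ({b} : Set G) →
      ∃ q : G, q * a * q⁻¹ = a ∧ q * b * q⁻¹ ∈ V ∧ q * b * q⁻¹ ≠ b := by
    intro a b ha haV hbV hab
    obtain ⟨E, hE, hEa⟩ := s.exists_big_centralizer ha
    have hRa : RG ≤ centralizer ({a} : Set G) := hRCV.trans (hab.le.trans inf_le_left)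
    obtain ⟨T, hT⟩ := (hRp.comap_subtype (K := centralizer ({a} : Set G))).exists_le_sylow
    set TG := (T : Subgroup ↥(centralizer ({a} : Set G))).map
      (centralizer ({a} : Set G)).subtype with hTG
    have hRT : RG ≤ TG := fun x hx => ⟨⟨x, hRa hx⟩, hT hx, rfl⟩
    have hne : RG ≠ TG := by
      intro e
      obtain ⟨k, hk, hkE⟩ := exists_conj_mem_sylow T (isPGroup_of_elementary hE.1) hEa
      refine hnoV (E.map (MulAut.conj k).toMonoidHom) (hE.map k) ?_
      rintro _ ⟨x, hx, rfl⟩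
      exact hRCV (e.ge (hkE x hx))
    obtain ⟨q, hq, hqR⟩ := SetLike.exists_of_lt
      (CfsgLib.Small.lt_inf_normalizer_of_pGroup (T.isPGroup'.map _) (lt_of_le_of_ne hRT hne))
    have hqa : q * a * q⁻¹ = a :=
      mul_inv_eq_iff_eq_mul.2 (mem_centralizer_singleton_iff.1 (map_subtype_le _ hq.1))
    refine ⟨q, hqa, ?_, fun e => hqR ?_⟩
    · have hD := mem_normalizer_iff_map_conj_eq.1 hq.2
      have hVq : V.map (MulAut.conj q).toMonoidHom = V := by
        rw [hV, CfsgLib.PLocal.map_omegaOne (MulAut.conj q).injective]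
        congr 1
        refine eq_of_le_of_card_ge ?_
          (le_of_eq (card_map_of_injective (MulAut.conj q).injective).symm)
        rintro _ ⟨d, hd, rfl⟩
        refine ⟨hD.le ⟨d, hd.1, rfl⟩, mem_centralizer_iff.2 fun e he => ?_⟩
        obtain ⟨e', he', rfl⟩ := hD.ge he
        show MulAut.conj q e' * MulAut.conj q d = MulAut.conj q d * MulAut.conj q e'
        rw [← map_mul, ← map_mul, mem_centralizer_iff.1 hd.2 e' he']
      exact hVq.le ⟨b, hbV, rfl⟩
    · have hqCV : q ∈ CV := hab.ge ⟨map_subtype_le _ hq.1,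
        mem_centralizer_singleton_iff.2 (mul_inv_eq_iff_eq_mul.1 e)⟩
      have hQ : IsPGroup 2 ↥(RG ⊔ zpowers q) := (T.isPGroup'.map _).to_le
        (sup_le hRT (zpowers_le.2 hq.1))
      exact hmax _ hQ le_sup_left (sup_le hRCV (zpowers_le.2 hqCV))
        (mem_sup_right (mem_zpowers q))
  obtain ⟨x, hxz, hxt, hxt'⟩ := grow z t hz hzV htV rfl
  obtain ⟨q, hqt, hqz, hqz'⟩ := grow t z ht htV hzV (inf_comm _ _)
  refine four_no_three s.prime s.three_lt s.nil hz ht (Ne.symm hzt) hc.symm hxz ?_ hqt ?_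
  · rw [← hVeq] at hxt
    rcases CfsgLib.Classification.mem_fourSpan.1 hxt with e | e | e | e
    · exact absurd (conj_eq_one_iff.1 e) (ZCGroup.ne_one_of_orderOf ht)
    · exact absurd ((MulAut.conj x).injective (e.trans hxz.symm)) hzt
    · exact absurd e hxt'
    · exact e
  · rw [← hVeq] at hqz
    rcases CfsgLib.Classification.mem_fourSpan.1 hqz with e | e | e | e
    · exact absurd (conj_eq_one_iff.1 e) (ZCGroup.ne_one_of_orderOf hz)
    · exact absurd e hqz'
    · exact absurd ((MulAut.conj q).injective (e.trans hqt.symm)).symm hzt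
    · exact e

theorem IsBig.exists_sup_zpowers {E : Subgroup G} (hE : IsBig E) {a : G} (ha : orderOf a = 2)
    (hEa : E ≤ centralizer ({a} : Set G)) :
    ∃ E' : Subgroup G, IsBig E' ∧ E ≤ E' ∧ a ∈ E' ∧
      ∀ K : Subgroup G, E ≤ K → a ∈ K → E' ≤ K := by
  refine ⟨E ⊔ zpowers a, ⟨CfsgLib.SolvSig.isElementaryAbelian_sup hE.1
    ⟨inferInstance, fun x hx => ?_⟩ ?_, hE.2.trans_le (card_le_of_le le_sup_left)⟩, le_sup_left,
    mem_sup_right (mem_zpowers a), fun K h1 h2 => sup_le h1 (zpowers_le.2 h2)⟩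
  · obtain ⟨k, rfl⟩ := mem_zpowers_iff.1 hx
    rw [← zpow_natCast, ← zpow_mul, mul_comm, zpow_mul, zpow_natCast, ← ha, pow_orderOf_eq_one,
      one_zpow]
  · exact zpowers_le.2 (mem_centralizer_iff.2 fun e he => mem_centralizer_singleton_iff.1 (hEa he))

/-- Centralizers of involutions of a linked Sylow subgroup normalize `W`, and their cores lie
in `W`. -/
theorem Linked.core_and_centralizer (s : Setting p G) {W : Subgroup G} {S : Sylow 2 G}
    (h : Linked W S) {t : G} (htS : t ∈ (S : Subgroup G)) (ht : orderOf t = 2) :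
    core t ≤ W ∧ centralizer ({t} : Set G) ≤ normalizer (W : Set G) := by
  haveI : Fact (Nat.Prime 2) := ⟨Nat.prime_two⟩
  obtain ⟨z, hzS, hz, hzc⟩ := CfsgLib.Inv53.exists_orderOf_eq_central S.isPGroup'
    (S.ne_bot_of_dvd_card s.even.two_dvd)
  have hSC : (S : Subgroup G) ≤ centralizer ({z} : Set G) := fun x hx =>
    mem_centralizer_singleton_iff.2 (hzc x hx)
  obtain ⟨E₀, hE₀S, hE₀, hcard, -⟩ := exists_large_elementary s S
  have hzN : centralizer ({z} : Set G) ≤ normalizer (W : Set G) :=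
    h.centralizer_le s ⟨hE₀, hcard⟩ hE₀S hz (hE₀S.trans hSC)
  suffices hsuf : ∃ (E : Subgroup G) (S' : Sylow 2 G), IsBig E ∧ E ≤ (S' : Subgroup G) ∧
      E ≤ centralizer ({t} : Set G) ∧ Linked W S' by
    obtain ⟨E, S', hE, hES, hEt, hlink⟩ := hsuf
    exact ⟨hlink.core_le s hE hES ht hEt, hlink.centralizer_le s hE hES ht hEt⟩
  by_cases hzt : t = z
  · exact ⟨E₀, S, ⟨hE₀, hcard⟩, hE₀S, hzt ▸ hE₀S.trans hSC, h⟩
  obtain ⟨E, hE, hEz, hEt⟩ := s.exists_big_pair hz ht hzt (hzc t htS)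
  obtain ⟨k, hk, hkE⟩ := exists_conj_mem_sylow (S.subtype hSC) (isPGroup_of_elementary hE.1) hEz
  refine ⟨E, k⁻¹ • S, hE, fun x hx => ?_, hEt, h.conj s (inv_mem (hzN hk))⟩
  obtain ⟨y, hy, hyx⟩ := hkE x hx
  refine ⟨k * x * k⁻¹, ?_, ?_⟩
  · rw [← hyx]; exact hy
  · show k⁻¹ * (k * x * k⁻¹) * k⁻¹⁻¹ = x
    group

/-- The group has a strongly embedded subgroup containing a big elementary subgroup. -/
theorem Setting.exists_stronglyEmbedded (s : Setting p G) :
    ∃ M : Subgroup G, Cfsg.IsStronglyEmbedded M := by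
  haveI : Fact (Nat.Prime 2) := ⟨Nat.prime_two⟩
  haveI := s.simple
  obtain ⟨S⟩ : Nonempty (Sylow 2 G) := inferInstance
  obtain ⟨W, hW⟩ := s.exists_linked S
  have hS1 : (S : Subgroup G) ≠ ⊥ := S.ne_bot_of_dvd_card s.even.two_dvd
  have hWtop : W ≠ ⊤ := by
    intro e
    have h := hW.odd s
    rw [e, card_top] at h
    exact absurd s.even (Nat.not_even_iff_odd.2 h)
  by_cases hW1 : W = ⊥
  swap
  · exact ⟨normalizer (W : Set G), ZCGroup.isStronglyEmbedded_of_centralizer
      (s.normalizer_ne_top hW1 hWtop) S hS1 (hW.sylow_le s)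
      (fun t ht ho => (hW.core_and_centralizer s ht ho).2) (hW.normalizer_le s)⟩
  have hcores : ∀ t : G, orderOf t = 2 → Cfsg.oddCore ↥(centralizer ({t} : Set G)) = ⊥ := by
    intro t ht
    obtain ⟨Q, hQ⟩ := (ZCGroup.isPGroup_zpowers_of_orderOf ht).exists_le_sylow
    obtain ⟨g, hg⟩ := MulAction.exists_smul_eq G S Q
    have h1 : t ∈ (g • S : Sylow 2 G) := hg.symm ▸ hQ (mem_zpowers _)
    obtain ⟨x, hx, hxt⟩ := h1
    have hxt' : g * x * g⁻¹ = t := hxt
    have hxo : orderOf x = 2 := by rw [← ht, ← hxt', ZCGroup.orderOf_conj]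
    have hcx : core x = ⊥ := le_bot_iff.1 ((hW.core_and_centralizer s hx hxo).1.trans hW1.le)
    have hct : core t = ⊥ := by rw [← hxt', core_conj, hcx, Subgroup.map_bot]
    exact (Subgroup.map_eq_bot_iff_of_injective _ (subtype_injective _)).1 hct
  have hchar : Cfsg.IsCharacteristicTwoType G :=
    Cfsg.Agent.S0505.result s.even s.solvableCentralizers hcores
  have hne : ∀ T : Subgroup G, IsPGroup 2 ↥T → T ≠ ⊤ := by
    intro T hT e
    refine s.nonsolvable ?_
    haveI : Group.IsNilpotent ↥(⊤ : Subgroup G) := (e ▸ hT : IsPGroup 2 ↥(⊤ : Subgroup G)).isNilpotent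
    haveI : Group.IsNilpotent G := Group.nilpotent_of_mulEquiv Subgroup.topEquiv
    infer_instance
  have hO : Cfsg.pCore 2 G = ⊥ := by
    rcases (inferInstance : (Cfsg.pCore 2 G).Normal).eq_bot_or_eq_top with e | e
    · exact e
    · exact absurd e (hne _ (CfsgLib.PLocal.isPGroup_pCore 2 G))
  have hloc : ∀ N : Subgroup G, Cfsg.IsTwoLocal N → Group.IsSolvable ↥N ∧
      Cfsg.IsOfCharacteristicTwo ↥N ∧ ¬ Cfsg.Involves (Equiv.Perm (Fin 4)) ↥N := by
    rintro N ⟨T, hT, hT1, rfl⟩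
    have hsol := s.proper _ (s.normalizer_ne_top hT1 (hne T hT))
    exact ⟨hsol, hchar.2 T hT hT1, not_involves_symFour s.prime s.three_lt s.nil hsol⟩
  obtain ⟨M, hM, hMmax⟩ := Set.Finite.exists_maximal (s := {M : Subgroup G | Cfsg.IsTwoLocal M})
    (Set.toFinite _) ⟨_, S, S.isPGroup', hS1, rfl⟩
  exact ⟨M, Cfsg.Agent.S3756.result s.even hO hloc M
    ⟨hM, fun N hN hle => le_antisymm (hMmax hN hle) hle⟩⟩

end CfsgLib.CoprimeNilpotent
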