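import Cfsg.Agent.CoprimeNilpotent.Embedded
import Cfsg.Agent.SEmbed.Elementary
import Cfsg.Agent.S0118
import Cfsg.Agent.OddOrder.BG9.LocalFrattini
import Cfsg.Agent.OddOrder.ZJ.Main
import Cfsg.Agent.Small.Dihedral
import Mathlib.LinearAlgebra.Matrix.SpecialLinearGroup

/-!
# The action on the cosets of the strongly embedded subgroup; involutions centralize the odd core
of a point stabilizer

If some involution moves the core of a point stabilizer, the stabilizer contains the normalizer of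
`Z(J(P))` for a Sylow `p`-subgroup `P`, controls fusion of `p`-elements, and a product of two
involutions with different fixed points gives a contradiction.
-/

set_option autoImplicit false
set_option linter.style.haveILetI false

namespace CfsgLib.CoprimeNilpotent

open Subgroup CfsgLib.SEmbed
open CfsgLib.Small (orderOf_conj_eq)
open scoped Pointwise MatrixGroups

variable {G : Type*} [Group G] [Finite G] {p : ℕ}

/-- `SL(2,p)` is not solvable for `p ≥ 5`. -/
theorem not_isSolvable_sl2 {p : ℕ} [Fact p.Prime] (hp : 3 < p) :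
    ¬ Group.IsSolvable (Matrix.SpecialLinearGroup (Fin 2) (ZMod p)) := by
  intro hsol
  have h2 : ∀ k : ℕ, 0 < k → k < p → ((k : ℕ) : ZMod p) ≠ 0 := fun k hk hkp h =>
    absurd (Nat.le_of_dvd hk ((ZMod.natCast_eq_zero_iff _ _).mp h)) (by omega)
  have hperf : commutator SL(2, ZMod p) = ⊤ := by
    refine Matrix.SL2.commutator_eq_top (a := (2 : ZMod p)) ?_ ?_
    · simpa using h2 2 (by norm_num) (by omega)
    · intro h
      apply h2 3 (by norm_num) hp
      have : (3 : ZMod p) = 2 ^ 2 - 1 := by norm_num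
      rw [Nat.cast_ofNat, this, h, sub_self]
  have : Nontrivial SL(2, ZMod p) := by
    refine ⟨1, -1, fun h => h2 2 (by norm_num) (by omega) ?_⟩
    have h1 := congrArg (fun g : SL(2, ZMod p) => (g : Matrix (Fin 2) (Fin 2) (ZMod p)) 0 0) h
    simp at h1
    rw [Nat.cast_ofNat, show (2 : ZMod p) = 1 + 1 by norm_num]
    nth_rewrite 2 [h1]
    rw [add_neg_cancel]
  exact (Group.IsSolvable.commutator_lt_top_of_nontrivial SL(2, ZMod p)).ne hperf

omit [Finite G] in
theorem no_section_of_isSolvable [Fact p.Prime] (hp : 3 < p) [Group.IsSolvable G] :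
    ¬ ∃ (H K : Subgroup G) (_ : (K.subgroupOf H).Normal),
      Nonempty ((H ⧸ K.subgroupOf H) ≃* Matrix.SpecialLinearGroup (Fin 2) (ZMod p)) := by
  rintro ⟨H, K, hK, ⟨e⟩⟩
  haveI := hK
  refine not_isSolvable_sl2 hp (Group.isSolvable_of_surjective
    (f := e.toMonoidHom.comp (QuotientGroup.mk' (K.subgroupOf H))) ?_)
  exact e.surjective.comp (QuotientGroup.mk'_surjective _)

omit [Finite G] in
theorem Setting.no_section (s : Setting p G) [Fact p.Prime] :
    ¬ ∃ (H K : Subgroup G) (_ : (K.subgroupOf H).Normal),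
      Nonempty ((H ⧸ K.subgroupOf H) ≃* Matrix.SpecialLinearGroup (Fin 2) (ZMod p)) := by
  rintro ⟨H, K, hK, ⟨e⟩⟩
  haveI := hK
  have hsurj : Function.Surjective (e.toMonoidHom.comp (QuotientGroup.mk' (K.subgroupOf H))) :=
    e.surjective.comp (QuotientGroup.mk'_surjective _)
  by_cases hH : H = ⊤
  · subst hH
    haveI := s.simple
    let f : G →* Matrix.SpecialLinearGroup (Fin 2) (ZMod p) :=
      (e.toMonoidHom.comp (QuotientGroup.mk' (K.subgroupOf ⊤))).comp
        (Subgroup.topEquiv (G := G)).symm.toMonoidHom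
    have hf : Function.Surjective f := hsurj.comp (Subgroup.topEquiv (G := G)).symm.surjective
    rcases (inferInstance : f.ker.Normal).eq_bot_or_eq_top with h | h
    · -- a simple group has no centre
      have hinj := (MonoidHom.ker_eq_bot_iff f).1 h
      obtain ⟨g, hg⟩ := hf (-1)
      have hgc : g ∈ center G := mem_center_iff.2 fun a => hinj (by
        rw [map_mul, map_mul, hg]
        exact Subtype.ext (by simp))
      have hg1 : g = 1 := by
        rcases (inferInstance : (center G).Normal).eq_bot_or_eq_top with hb | hb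
        · rwa [hb, mem_bot] at hgc
        · exact absurd (Group.isSolvable_of_comm fun a b =>
            (mem_center_iff.1 (hb.ge (mem_top a)) b).symm) s.nonsolvable
      rw [hg1, map_one] at hg
      have h1 := congrArg (fun g : Matrix.SpecialLinearGroup (Fin 2) (ZMod p) =>
        (g : Matrix (Fin 2) (Fin 2) (ZMod p)) 0 0) hg
      simp at h1
      have h2 : (2 : ZMod p) = 0 := by
        rw [show (2 : ZMod p) = 1 + 1 by norm_num]
        nth_rewrite 2 [h1]
        rw [add_neg_cancel]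
      have h2' : ((2 : ℕ) : ZMod p) = 0 := by exact_mod_cast h2
      have := Nat.le_of_dvd two_pos ((ZMod.natCast_eq_zero_iff _ _).mp h2')
      have := s.three_lt
      omega
    · haveI : Subsingleton (Matrix.SpecialLinearGroup (Fin 2) (ZMod p)) := ⟨fun a b => by
        obtain ⟨a, rfl⟩ := hf a
        obtain ⟨b, rfl⟩ := hf b
        rw [(h.ge (mem_top a) : a ∈ f.ker), (h.ge (mem_top b) : b ∈ f.ker)]⟩
      exact not_isSolvable_sl2 s.three_lt (Group.isSolvable_of_comm fun _ _ => Subsingleton.elim _ _)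
  · haveI := s.proper H hH
    exact not_isSolvable_sl2 s.three_lt (Group.isSolvable_of_surjective hsurj)

theorem index_dvd_card_of_sup_eq_top {N : Type*} [Group N] [Finite N] (C K : Subgroup N) [C.Normal]
    (h : C ⊔ K = ⊤) : K.index ∣ Nat.card C := by
  have h1 : C.index = C.relIndex K := by
    rw [← relIndex_top_right, ← h, relIndex_sup_left]
  obtain ⟨j, hj⟩ : C.index ∣ Nat.card K := h1 ▸ relIndex_dvd_card C K
  refine ⟨j, Nat.eq_of_mul_eq_mul_left
    (Nat.pos_of_ne_zero (index_ne_zero_of_finite (H := C))) ?_⟩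
  calc C.index * Nat.card C = Nat.card K * K.index := by
        rw [mul_comm, card_mul_index, card_mul_index]
    _ = C.index * (K.index * j) := by rw [hj]; ring

/-- The hypotheses on the action. -/
structure Action (p : ℕ) (G : Type*) [Group G] (Ω : Type*) [MulAction G Ω] : Prop where
  setting : Setting p G
  fix : UniqueFix G Ω
  nontrivial : Nontrivial Ω

variable {Ω : Type*} [MulAction G Ω] (A : Action p G Ω)
include A

omit [Finite G] in
theorem Action.stabilizer_ne_top (x : Ω) : MulAction.stabilizer G x ≠ ⊤ := by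
  intro h
  obtain ⟨y, hy⟩ := A.nontrivial.exists_pair_ne.elim fun a ha => ha.elim fun b hab =>
    (show ∃ y, y ≠ x by
      by_cases hax : a = x
      · exact ⟨b, fun e => hab (hax.trans e.symm)⟩
      · exact ⟨a, hax⟩)
  obtain ⟨g, hg⟩ := A.fix.transitive x y
  exact hy (hg.symm.trans (h.ge (mem_top g) : g • x = x))

omit [Finite G] in
theorem Action.solvable (x : Ω) : Group.IsSolvable ↥(MulAction.stabilizer G x) :=
  A.setting.proper _ (A.stabilizer_ne_top x)

/-- Every point is fixed by a big elementary group. -/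
theorem Action.exists_big (x : Ω) :
    ∃ E : Subgroup G, IsBig E ∧ E ≤ MulAction.stabilizer G x := by
  obtain ⟨t, ht, htx⟩ := A.fix.exists_inv x
  obtain ⟨E, hE, hEt⟩ := A.setting.exists_big_centralizer ht
  exact ⟨E, hE, hEt.trans (centralizer_le_stabilizer A.fix ⟨ht, htx⟩)⟩

theorem Action.exists_four (x : Ω) :
    ∃ V : Subgroup G, IsFour V ∧ V ≤ MulAction.stabilizer G x := by
  obtain ⟨E, hE, hEx⟩ := A.exists_big x
  obtain ⟨F, hFE, hF⟩ := exists_four_le hE.1 (by have := hE.2; omega)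
  exact ⟨F, ⟨hF.card_four, fun v hv => CfsgLib.Classification.sq_eq_one_of_isKleinFour hF hv⟩,
    hFE.trans hEx⟩

/-- A proper subgroup containing a four group at `x` fixes `x`. -/
theorem Action.le_stabilizer {X V : Subgroup G} (hX : X ≠ ⊤) (hV : IsFour V) (hVX : V ≤ X) {x : Ω}
    (hVx : V ≤ MulAction.stabilizer G x) : X ≤ MulAction.stabilizer G x := by
  classical
  haveI : Fact (Nat.Prime 2) := ⟨Nat.prime_two⟩
  obtain ⟨v, hv, hvo⟩ := hV.exists_invol
  suffices hall : ∀ r ∈ X, orderOf r = 2 → r • x = x by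
    intro g hg
    have hgv : (g * v * g⁻¹) • x = x :=
      hall _ (mul_mem (mul_mem hg (hVX hv)) (inv_mem hg)) (by rw [orderOf_conj_eq, hvo])
    refine A.fix.unique _ (show orderOf (g * v * g⁻¹) = 2 by rw [orderOf_conj_eq, hvo]) _ _ ?_ hgv
    rw [smul_smul, inv_mul_cancel_right, mul_smul, (hVx hv : v • x = x)]
  intro r hr hro
  by_contra hrx
  obtain ⟨y, hry⟩ := A.fix.exists_fix r hro
  have hxy : x ≠ y := fun e => hrx (e ▸ hry)
  haveI := A.setting.proper X hX
  set O := Cfsg.pPrimeCore 2 ↥X with hO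
  set L := Cfsg.pPrimePCore 2 ↥X with hL
  haveI : L.Normal := Subgroup.Normal.comap inferInstance _
  obtain ⟨P⟩ : Nonempty (Sylow 2 ↥L) := inferInstance
  set T := (P : Subgroup ↥L).map L.subtype with hT
  have hcon : centralizer (T : Set ↥X) ≤ L :=
    CfsgLib.PLocal.isPConstrained_of_isPSolvable CfsgLib.PLocal.isPSolvable_of_isSolvable P
  set TG := T.map X.subtype with hTG
  set LG := L.map X.subtype with hLG
  have hTp : IsPGroup 2 ↥TG := (P.isPGroup'.map _).map _
  have hT1 : T ≠ ⊥ := by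
    intro e
    have htop : L = ⊤ := top_unique (le_trans (le_of_eq ?_) hcon)
    swap
    · rw [e]
      refine (eq_top_iff.2 fun g _ => mem_centralizer_iff.2 fun a ha => ?_).symm
      rw [SetLike.mem_coe, mem_bot] at ha
      rw [ha, one_mul, mul_one]
    have hodd : ¬ 2 ∣ Nat.card ↥L := by
      intro hd
      refine P.ne_bot_of_dvd_card hd ?_
      exact (Subgroup.map_eq_bot_iff_of_injective _ L.subtype_injective).1 e
    rw [htop, card_top] at hodd
    exact hodd (hvo ▸ (Subgroup.orderOf_dvd_natCard X (hVX hv)))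
  have hLX : X ≤ normalizer (LG : Set G) := by
    intro g hg
    exact le_normalizer_map X.subtype ⟨⟨g, hg⟩, (normalizer_eq_top L).ge (mem_top _), rfl⟩
  obtain ⟨c, hcT, hc, hcc⟩ := CfsgLib.Inv53.exists_orderOf_eq_central hTp
    (fun e => hT1 ((Subgroup.map_eq_bot_iff_of_injective _ X.subtype_injective).1 e))
  have hLeven : Even (Nat.card ↥LG) := by
    refine even_iff_two_dvd.2 (hc ▸ Subgroup.orderOf_dvd_natCard _ ?_)
    exact map_mono (map_subtype_le _) hcT
  have hinvL : ∀ u ∈ X, orderOf u = 2 → u ∈ LG := fun u hu huo =>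
    invol_mem_of_normal A.fix (map_subtype_le L) hLX (hVX hv) hr hvo hro (hVx hv) hry hxy hLeven
      hu huo
  have hcL : c ∈ LG := map_mono (map_subtype_le _) hcT
  -- every involution of `X` is `c` modulo the core
  set OG := O.map X.subtype with hOG
  have hOodd : Odd (Nat.card ↥OG) := by
    rw [hOG, card_map_of_injective X.subtype_injective]
    exact Nat.coprime_two_right.1 (CfsgLib.PLocal.coprime_card_pPrimeCore 2 _)
  have hmodc : ∀ u ∈ V, u ≠ 1 → u * c ∈ OG := by
    intro u hu hu1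
    have huo : orderOf u = 2 := hV.orderOf_eq_two hu hu1
    obtain ⟨l, hl, hlc⟩ := isConj_in A.fix (M := LG) (hinvL v (hVX hv) hvo) (hinvL r hr hro) hvo hro
      (hVx hv) hry hxy hcL (hinvL u (hVX hu) huo) hc huo
    obtain ⟨l', hl', rfl⟩ := hl
    have hsup := CfsgLib.PLocal.sylow_pPrimePCore_sup (p := 2) (G := ↥X) P
    have hmem : l' ∈ T ⊔ O := hsup.ge hl'
    obtain ⟨τ, hτ, o, ho, rfl⟩ := mem_sup_of_normal_right.1 hmem
    obtain ⟨c', hc', hcc'⟩ := hcT
    have hcomm : τ * c' = c' * τ := Subtype.ext (by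
      have := hcc (τ : G) ⟨τ, hτ, rfl⟩
      rw [← hcc'] at this
      exact this)
    refine ⟨τ * o * c' * (τ * o)⁻¹ * c', ?_, ?_⟩
    · have hc2 : c' * c' = 1 := Subtype.ext (by
        rw [Subgroup.coe_mul, show ((c' : ↥X) : G) = c from hcc', Subgroup.coe_one, ← sq, ← hc,
          pow_orderOf_eq_one])
      have e : τ * o * c' * (τ * o)⁻¹ * c' =
          (τ * o * τ⁻¹) * (c' * (τ * o * τ⁻¹)⁻¹ * c'⁻¹) := by
        have hinv : c'⁻¹ = c' := inv_eq_of_mul_eq_one_left hc2
        calc τ * o * c' * (τ * o)⁻¹ * c' = τ * o * (τ⁻¹ * (τ * c') * τ⁻¹) * (τ * o⁻¹ * τ⁻¹) * c' := by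
              group
          _ = τ * o * (τ⁻¹ * (c' * τ) * τ⁻¹) * (τ * o⁻¹ * τ⁻¹) * c' := by rw [hcomm]
          _ = _ := by rw [hinv]; group
      rw [e]
      exact mul_mem ((inferInstance : O.Normal).conj_mem o ho τ)
        ((inferInstance : O.Normal).conj_mem _ (inv_mem ((inferInstance : O.Normal).conj_mem o ho τ)) c')
    · show ((τ * o * c' * (τ * o)⁻¹ * c' : ↥X) : G) = u * c
      rw [← hlc, ← hcc']
      rfl
  obtain ⟨w, hw, hw1, hwv⟩ := CfsgLib.Classification.exists_mem_ne_of_isKleinFour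
    (isKleinFour_of_card hV.1 hV.2) v
  have hv1 := CfsgLib.Small.ne_one_of_orderOf_two hvo
  have hvwO : v * w ∈ OG := by
    have h1 := mul_mem (hmodc v hv hv1) (inv_mem (hmodc w hw hw1))
    rwa [mul_inv_rev, mul_assoc, mul_inv_cancel_left,
      inv_eq_of_mul_eq_one_right (hV.2 w hw)] at h1
  have hne : v * w ≠ 1 := fun e => hwv (by
    rw [← inv_eq_of_mul_eq_one_right (hV.2 v hv)]
    exact eq_inv_of_mul_eq_one_right e)
  exact absurd (hOodd.of_dvd_nat (hV.orderOf_eq_two (mul_mem hv hw) hne ▸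
    Subgroup.orderOf_dvd_natCard _ hvwO)) (by decide)

/-- A two point stabilizer is a `p`-group. -/
theorem Action.isPGroup_pairStab {x y : Ω} (hxy : x ≠ y) : IsPGroup p ↥(pairStab G x y) := by
  haveI : Fact (Nat.Prime 2) := ⟨Nat.prime_two⟩
  have s := A.setting
  haveI := Fact.mk s.prime
  have hodd := odd_pairStab A.fix hxy
  intro d
  obtain ⟨e, r, hr, he⟩ :=
    Nat.exists_eq_pow_mul_and_not_dvd (orderOf_pos d).ne' p s.prime.ne_one
  refine ⟨e, ?_⟩
  rw [← orderOf_dvd_iff_pow_eq_one]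
  suffices hr1 : r = 1 by rw [he, hr1, mul_one]
  by_contra hne
  set c : G := (d : G) ^ p ^ e with hc
  have hco : orderOf c = r := by
    rw [hc, orderOf_pow_of_dvd (pow_pos s.prime.pos e).ne'
      (Subgroup.orderOf_coe d ▸ he ▸ dvd_mul_right _ _), Subgroup.orderOf_coe, he,
      Nat.mul_div_cancel_left _ (pow_pos s.prime.pos e)]
  have hc1 : c ≠ 1 := fun h1 => hne (by rw [← hco, h1, orderOf_one])
  have hcmem : c ∈ pairStab G x y := pow_mem d.2 _
  have hcodd : Odd (orderOf c) := hodd.of_dvd_nat (Subgroup.orderOf_dvd_natCard _ hcmem)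
  have key : ∀ z : Ω, c • z = z →
      centralizer ({c} : Set G) ≤ MulAction.stabilizer G z ∧
        ∃ V : Subgroup G, IsFour V ∧ V ≤ centralizer ({c} : Set G) := by
    intro z hz
    obtain ⟨S, hS⟩ := exists_sylow_commute s.prime (three_lt_ne_two s.three_lt) s.nil (A.solvable z)
      (c := c) hz hcodd (hco.symm ▸ ((Nat.Prime.coprime_iff_not_dvd s.prime).2 hr).symm)
    obtain ⟨E, hE, hEz⟩ := A.exists_big z
    obtain ⟨k, hk, hkE⟩ :=
      ZCGroup.exists_conj_mem_sylow S (isPGroup_of_elementary hE.1) hEz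
    set E' := E.map (MulAut.conj k).toMonoidHom with hE'
    have hE'c : E' ≤ centralizer ({c} : Set G) := by
      rintro _ ⟨a, ha, rfl⟩
      obtain ⟨b, hb, hbe⟩ := hkE a ha
      refine mem_centralizer_singleton_iff.2 ?_
      show k * a * k⁻¹ * c = c * (k * a * k⁻¹)
      rw [← hbe]
      exact (hS b hb).eq.symm
    have hE'z : E' ≤ MulAction.stabilizer G z := by
      rintro _ ⟨a, ha, rfl⟩
      exact mul_mem (mul_mem hk (hEz ha)) (inv_mem hk)
    obtain ⟨F, hFE, hF⟩ := exists_four_le (hE.map k).1 (by have := (hE.map k).2; omega)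
    have hFour : IsFour F :=
      ⟨hF.card_four, fun v hv => CfsgLib.Classification.sq_eq_one_of_isKleinFour hF hv⟩
    exact ⟨A.le_stabilizer (s.centralizer_ne_top hc1) hFour (hFE.trans hE'c) (hFE.trans hE'z),
      F, hFour, hFE.trans hE'c⟩
  obtain ⟨hCx, V, hV, hVc⟩ := key x (mem_pairStab.1 hcmem).1
  obtain ⟨hCy, -⟩ := key y (mem_pairStab.1 hcmem).2
  obtain ⟨v, hv, hvo⟩ := hV.exists_invol
  exact hxy (A.fix.unique v hvo x y (hCx (hVc hv)) (hCy (hVc hv)))

/-- The number of involutions fixing a point is a power of `p`. -/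
theorem Action.card_invMap_eq_pow (x : Ω) :
    ∃ a, Nat.card (invMap (G := G) x x) = p ^ a := by
  haveI := A.nontrivial
  haveI := Fact.mk A.setting.prime
  obtain ⟨y, hy⟩ := exists_ne x
  set D := pairStab G x y with hD
  have hmem : ∀ (d : ↥D) (i : invMap (G := G) x x), (d : G) * i * (d : G)⁻¹ ∈ invMap (G := G) x x :=
    fun d i => conj_mem_invMap (show (d : G) ∈ MulAction.stabilizer G x from (mem_pairStab.1 d.2).1)
      i.2
  letI : MulAction ↥D (invMap (G := G) x x) :=
    { smul := fun d i => ⟨(d : G) * i * (d : G)⁻¹, hmem d i⟩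
      one_smul := fun i => Subtype.ext (by
        show ((1 : ↥D) : G) * (i : G) * ((1 : ↥D) : G)⁻¹ = i
        simp)
      mul_smul := fun a b i => Subtype.ext (by
        show (a * b : ↥D) * (i : G) * ((a * b : ↥D) : G)⁻¹ = a * (b * i * (b : G)⁻¹) * (a : G)⁻¹
        rw [Subgroup.coe_mul]; group) }
  obtain ⟨t, ht, htx⟩ := A.fix.exists_inv x
  let t' : invMap (G := G) x x := ⟨t, ht, htx⟩
  haveI : Finite ↥D := inferInstance
  obtain ⟨a, ha⟩ := (A.isPGroup_pairStab hy.symm).card_orbit t'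
  have htop : MulAction.orbit ↥D t' = Set.univ := by
    rw [Set.eq_univ_iff_forall]
    intro i
    obtain ⟨d, hd, hdi⟩ := exists_conj_fix A.fix hy.symm t'.2 i.2
    exact ⟨⟨d, hd⟩, Subtype.ext hdi⟩
  rw [htop, Nat.card_congr (Equiv.Set.univ _)] at ha
  exact ⟨a, ha⟩

/-- An involution of a point stabilizer has as many conjugates there as the point has
involutions. -/
theorem Action.index_centralizer (x : Ω) {i : ↥(MulAction.stabilizer G x)}
    (hix : (i : G) ∈ invMap (G := G) x x) :
    (centralizer ({i} : Set ↥(MulAction.stabilizer G x))).index =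
      Nat.card (invMap (G := G) x x) := by
  haveI := A.nontrivial
  obtain ⟨y, hy⟩ := exists_ne x
  letI : MulAction ↥(MulAction.stabilizer G x) (invMap (G := G) x x) :=
    { smul := fun g j => ⟨(g : G) * j * (g : G)⁻¹, conj_mem_invMap g.2 j.2⟩
      one_smul := fun j => Subtype.ext (by
        show ((1 : ↥(MulAction.stabilizer G x)) : G) * (j : G) *
          ((1 : ↥(MulAction.stabilizer G x)) : G)⁻¹ = j
        simp)
      mul_smul := fun a b j => Subtype.ext (by
        show (a * b : ↥(MulAction.stabilizer G x)) * (j : G) *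
          ((a * b : ↥(MulAction.stabilizer G x)) : G)⁻¹ = a * (b * j * (b : G)⁻¹) * (a : G)⁻¹
        rw [Subgroup.coe_mul]; group) }
  have hst : MulAction.stabilizer ↥(MulAction.stabilizer G x)
      (⟨i, hix⟩ : invMap (G := G) x x) = centralizer ({i} : Set ↥(MulAction.stabilizer G x)) := by
    ext g
    rw [MulAction.mem_stabilizer_iff, mem_centralizer_singleton_iff]
    constructor
    · intro e
      exact Subtype.ext (mul_inv_eq_iff_eq_mul.1 (congrArg Subtype.val e))
    · intro e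
      exact Subtype.ext (mul_inv_eq_iff_eq_mul.2 (congrArg Subtype.val e))
  have htop : MulAction.orbit ↥(MulAction.stabilizer G x)
      (⟨i, hix⟩ : invMap (G := G) x x) = Set.univ := by
    rw [Set.eq_univ_iff_forall]
    intro j
    obtain ⟨d, hd, hdj⟩ := exists_conj_fix A.fix hy.symm hix j.2
    exact ⟨⟨d, (mem_pairStab.1 hd).1⟩, Subtype.ext hdj⟩
  rw [← hst, MulAction.index_stabilizer, htop, Set.ncard_univ]

omit A

/-- An involution inverting `w` with no fixed point among the fixed points of `w` forces an odd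
centralizer of `w`, as soon as `w` fixes a point. -/
theorem centralizer_odd (h : UniqueFix G Ω) {w t : G} (ht : orderOf t = 2)
    (hinv : t * w * t⁻¹ = w⁻¹) (hno : ∀ z : Ω, w • z = z → t • z ≠ z) :
    Odd (Nat.card ↥(centralizer ({w} : Set G))) := by
  haveI : Fact (Nat.Prime 2) := ⟨Nat.prime_two⟩
  by_contra hodd
  set C := centralizer ({w} : Set G) with hC
  have htn : t ∈ normalizer (C : Set G) := by
    refine mem_normalizer_iff_map_conj_eq.2 (eq_of_le_of_card_ge ?_
      (le_of_eq (card_map_of_injective (MulAut.conj t).injective).symm))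
    rintro _ ⟨c, hc, rfl⟩
    have hc' : Commute c w⁻¹ := (show Commute c w from mem_centralizer_singleton_iff.1 hc).inv_right
    have h2 := hc'.map (MulAut.conj t).toMonoidHom
    refine mem_centralizer_singleton_iff.2 ?_
    have h3 : t * w⁻¹ * t⁻¹ = w := by rw [← conj_inv, hinv, inv_inv]
    have h4 : (MulAut.conj t).toMonoidHom w⁻¹ = w := h3
    rw [h4] at h2
    exact h2.eq
  set K := C ⊔ zpowers t with hK
  have hKn : K ≤ normalizer (C : Set G) := sup_le le_normalizer (zpowers_le.2 htn)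
  haveI : (C.subgroupOf K).Normal := (normal_subgroupOf_iff_le_normalizer le_sup_left).2 hKn
  obtain ⟨Q, hQ⟩ := (IsPGroup.of_card (n := 1) (by
    rw [Nat.card_zpowers, Subgroup.orderOf_mk, ht, pow_one]) :
      IsPGroup 2 ↥(zpowers (⟨t, mem_sup_right (mem_zpowers t)⟩ : ↥K))).exists_le_sylow
  have hne : (C.subgroupOf K).subgroupOf (Q : Subgroup ↥K) ≠ ⊥ := by
    intro e
    have h1 := CfsgLib.Transfer.not_dvd_card_of_sylow_inf_eq_bot Q (C.subgroupOf K) (by
      rw [inf_comm]
      exact disjoint_iff.1 (subgroupOf_eq_bot.1 e))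
    rw [Nat.card_congr (subgroupOfEquivOfLe (le_sup_left : C ≤ K)).toEquiv] at h1
    exact h1 (Nat.not_odd_iff_even.1 hodd).two_dvd
  obtain ⟨r, hrC, hrc, hr⟩ := CfsgLib.Small.exists_central_invol_mem
    (G := ↥(Q : Subgroup ↥K)) Q.isPGroup' ((C.subgroupOf K).subgroupOf (Q : Subgroup ↥K)) hne
  have hro : orderOf (((r : ↥K) : G)) = 2 := by rw [Subgroup.orderOf_coe, Subgroup.orderOf_coe, hr]
  have htQ : (⟨t, mem_sup_right (mem_zpowers t)⟩ : ↥K) ∈ (Q : Subgroup ↥K) :=
    hQ (mem_zpowers _)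
  have hcomm : Commute t ((r : ↥K) : G) :=
    congrArg Subtype.val (congrArg Subtype.val (mem_center_iff.1 hrc ⟨_, htQ⟩))
  obtain ⟨z, hz⟩ := h.exists_fix _ hro
  have hrw : Commute w ((r : ↥K) : G) := (mem_centralizer_singleton_iff.1 hrC).symm
  exact hno z (commute_fix h hro hrw hz) (commute_fix h hro hcomm hz)

/-- The orbit argument: an involution inverting `w` cannot permute a `C(w)`-orbit of fixed points
of `w` without fixed points. -/
theorem no_swap (h : UniqueFix G Ω) {w t : G} (ht : orderOf t = 2)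
    (hinv : t * w * t⁻¹ = w⁻¹) (hno : ∀ z : Ω, w • z = z → t • z ≠ z) {z : Ω} (hz : w • z = z)
    {c : G} (hc : c ∈ centralizer ({w} : Set G)) : c • z ≠ t • z := by
  haveI : Fact (Nat.Prime 2) := ⟨Nat.prime_two⟩
  haveI := finite_points h
  intro hcz
  set C := centralizer ({w} : Set G) with hC
  have hodd := centralizer_odd h ht hinv hno
  set O := MulAction.orbit ↥C z with hO
  have hfixO : ∀ a ∈ O, w • a = a := by
    rintro _ ⟨g, rfl⟩
    show w • (g : G) • z = (g : G) • z
    rw [smul_smul, ← mem_centralizer_singleton_iff.1 g.2, mul_smul, hz]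
  have hconj : ∀ g ∈ C, t * g * t⁻¹ ∈ C := by
    intro g hg
    have hc' : Commute g w⁻¹ := (show Commute g w from mem_centralizer_singleton_iff.1 hg).inv_right
    have h2 := hc'.map (MulAut.conj t).toMonoidHom
    have h3 : t * w⁻¹ * t⁻¹ = w := by rw [← conj_inv, hinv, inv_inv]
    have h4 : (MulAut.conj t).toMonoidHom w⁻¹ = w := h3
    rw [h4] at h2
    exact mem_centralizer_singleton_iff.2 h2.eq
  have hst : ∀ g : ↥(zpowers t), ∀ a ∈ O, (g : G) • a ∈ O := by
    have hone : ∀ a ∈ O, t • a ∈ O := by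
      rintro _ ⟨g, rfl⟩
      refine ⟨⟨t * g * t⁻¹ * c, mul_mem (hconj g g.2) hc⟩, ?_⟩
      show (t * g * t⁻¹ * c) • z = t • (g : G) • z
      rw [mul_smul, hcz, smul_smul, inv_mul_cancel_right, mul_smul]
    intro g a ha
    obtain ⟨k, hk⟩ := Submonoid.mem_powers_iff _ _ |>.1 (mem_powers_iff_mem_zpowers.2 g.2)
    rw [← hk]
    clear hk
    induction k with
    | zero => rwa [pow_zero, one_smul]
    | succ k ih => rw [pow_succ', mul_smul]; exact hone _ ih
  letI : MulAction ↥(zpowers t) O :=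
    { smul := fun g a => ⟨(g : G) • (a : Ω), hst g a a.2⟩
      one_smul := fun a => Subtype.ext (one_smul G _)
      mul_smul := fun g g' a => Subtype.ext (mul_smul (g : G) (g' : G) _) }
  have hmod := (ZCGroup.isPGroup_zpowers_of_orderOf ht).card_modEq_card_fixedPoints O
  have hempty : MulAction.fixedPoints ↥(zpowers t) O = ∅ := by
    rw [Set.eq_empty_iff_forall_notMem]
    exact fun a ha => hno a (hfixO a a.2) (congrArg Subtype.val (ha ⟨t, mem_zpowers t⟩))
  have h0 : Nat.card (MulAction.fixedPoints ↥(zpowers t) O) = 0 := by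
    rw [hempty]; exact Nat.card_of_isEmpty
  rw [h0] at hmod
  have hO1 : Nat.card O ∣ Nat.card ↥C := by
    rw [Nat.card_coe_set_eq, hO, ← MulAction.index_stabilizer]
    exact index_dvd_card _
  exact absurd ((hodd.of_dvd_nat hO1)) (Nat.not_odd_iff_even.2
    (even_iff_two_dvd.2 (Nat.modEq_zero_iff_dvd.1 hmod)))

include A

/-- Every involution of a point stabilizer centralizes its core. -/
theorem Action.commute_core (x : Ω) {t : G} (ht : t ∈ invMap (G := G) x x)
    {o : ↥(MulAction.stabilizer G x)}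
    (ho : o ∈ Cfsg.pPrimeCore 2 ↥(MulAction.stabilizer G x)) : t * o = o * t := by
  classical
  haveI : Fact (Nat.Prime 2) := ⟨Nat.prime_two⟩
  have s := A.setting
  haveI := Fact.mk s.prime
  haveI := A.nontrivial
  have hp2 : p ≠ 2 := three_lt_ne_two s.three_lt
  revert o
  set H := MulAction.stabilizer G x with hH
  intro o ho
  haveI : Group.IsSolvable ↥H := A.solvable x
  set O := Cfsg.pPrimeCore 2 ↥H with hO
  haveI : O.Normal := inferInstance
  obtain ⟨R⟩ : Nonempty (Sylow p ↥O) := inferInstance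
  set R' := (R : Subgroup ↥O).map O.subtype with hR'
  obtain ⟨y, hy⟩ := exists_ne x
  by_cases hcent : ∃ i : ↥H, orderOf i = 2 ∧ i ∈ centralizer (R' : Set ↥H)
  · -- an involution centralizing a Sylow `p`-subgroup of the core centralizes the core
    obtain ⟨i, hio, hiR⟩ := hcent
    have hix : (i : G) ∈ invMap (G := G) x x := ⟨by rw [Subgroup.orderOf_coe]; exact hio, i.2⟩
    set C := centralizer ({i} : Set ↥H) with hC
    have hCidx : C.index = Nat.card (invMap (G := G) x x) := A.index_centralizer x hix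
    obtain ⟨a, ha⟩ := A.card_invMap_eq_pow x
    have hrel : C.relIndex O ∣ p ^ a := by
      rw [← ha, ← hCidx]
      exact CfsgLib.Transfer.relIndex_dvd_index_of_normal_right C O
    have hRC : R' ≤ C := fun r hr =>
      mem_centralizer_singleton_iff.2 (mem_centralizer_iff.1 hiR r hr)
    have hnp : ¬ p ∣ C.relIndex O := by
      intro hd
      refine R.not_dvd_index (hd.trans ?_)
      refine index_dvd_of_le ?_
      intro r hr
      exact hRC ⟨r, hr, rfl⟩
    have h1 : C.relIndex O = 1 :=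
      Nat.eq_one_of_dvd_coprimes (((Nat.Prime.coprime_iff_not_dvd s.prime).2 hnp).pow_left a)
        hrel dvd_rfl
    have hOC : O ≤ C := relIndex_eq_one.1 h1
    obtain ⟨d, hd, hdt⟩ := exists_conj_fix A.fix hy.symm hix ht
    have hdH : d ∈ H := (mem_pairStab.1 hd).1
    have hm := mem_centralizer_singleton_iff.1 (hOC ((inferInstance : O.Normal).conj_mem o ho
      (⟨d, hdH⟩ : ↥H)⁻¹))
    have hm' := congrArg (fun g : ↥H => d * (g : G) * d⁻¹) hm
    rw [← hdt]
    simp only [Subgroup.coe_mul, InvMemClass.coe_inv, inv_inv] at hm'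
    calc d * (i : G) * d⁻¹ * (o : G) = d * ((i : G) * (d⁻¹ * o * d)) * d⁻¹ := by group
      _ = d * ((d⁻¹ * o * d) * (i : G)) * d⁻¹ := hm'.symm
      _ = (o : G) * (d * (i : G) * d⁻¹) := by group
  -- otherwise the stabilizer controls the fusion of `p`-elements
  exfalso
  push Not at hcent
  set N₁ := normalizer (R' : Set ↥H) with hN₁
  have hfr : N₁ ⊔ O = ⊤ := Sylow.normalizer_sup_eq_top R
  have hidx : N₁.index ∣ (R : Subgroup ↥O).index := by
    have h1 : N₁.index = N₁.relIndex O := by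
      have e1 := relIndex_mul_relIndex (N₁ ⊓ O) N₁ ⊤ inf_le_left le_top
      have e2 := relIndex_mul_relIndex (N₁ ⊓ O) O ⊤ inf_le_right le_top
      rw [inf_relIndex_left, relIndex_top_right] at e1
      rw [inf_relIndex_right, relIndex_top_right] at e2
      have e3 : O.relIndex N₁ = O.index := by
        rw [← relIndex_top_right O, ← hfr, relIndex_sup_right]
      rw [e3, mul_comm] at e1
      exact (Nat.eq_of_mul_eq_mul_right (Nat.pos_of_ne_zero index_ne_zero_of_finite)
        (e1.trans e2.symm))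
    rw [h1]
    exact index_dvd_of_le (fun r hr => le_normalizer ⟨r, hr, rfl⟩)
  have hN2 : ¬ 2 ∣ N₁.index := fun hd => by
    have h1 : Odd (Nat.card ↥O) := Nat.coprime_two_right.1 (CfsgLib.PLocal.coprime_card_pPrimeCore 2 _)
    exact Nat.not_even_iff_odd.2 (h1.of_dvd_nat (hidx.trans (index_dvd_card _)))
      (even_iff_two_dvd.2 hd)
  have hNp : ¬ p ∣ N₁.index := fun hd => R.not_dvd_index (hd.trans hidx)
  obtain ⟨P₁⟩ : Nonempty (Sylow p ↥N₁) := inferInstance
  set Z₁ := Cfsg.centerThompsonOf p (P₁ : Subgroup ↥N₁) with hZ₁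
  have hR'N : R' ≤ N₁ := le_normalizer
  haveI hRn : (R'.subgroupOf N₁).Normal :=
    (normal_subgroupOf_iff_le_normalizer hR'N).2 le_rfl
  have hR'P : R'.subgroupOf N₁ ≤ (P₁ : Subgroup ↥N₁) :=
    (CfsgLib.PLocal.le_pCore (hN := hRn) ((R.isPGroup'.map _).comap_subtype)).trans
      (CfsgLib.PLocal.pCore_le_sylow P₁)
  set K := normalizer (Z₁ : Set ↥N₁) with hK
  set C := centralizer ((R'.subgroupOf N₁ : Subgroup ↥N₁) : Set ↥N₁) with hC
  haveI : C.Normal := @Subgroup.normal_centralizer _ _ _ hRn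
  have hCK : C ⊔ K = ⊤ := by
    refine top_unique fun g _ => ?_
    obtain ⟨n, hn, hna⟩ := Cfsg.Agent.S0118.result hp2 (no_section_of_isSolvable s.three_lt) P₁
      ((R'.subgroupOf N₁ : Subgroup ↥N₁) : Set ↥N₁) hR'P g (by
        rintro _ ⟨a, ha, rfl⟩
        exact hR'P (by simpa using hRn.conj_mem a ha g⁻¹))
    refine mem_sup_of_normal_left.2 ⟨g * n⁻¹, mem_centralizer_iff.2 fun a ha => ?_, n, hn,
      inv_mul_cancel_right g n⟩
    calc a * (g * n⁻¹) = g * (g⁻¹ * a * g) * n⁻¹ := by group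
      _ = g * (n⁻¹ * a * n) * n⁻¹ := by rw [hna a ha]
      _ = g * n⁻¹ * a := by group
  have hCodd : Odd (Nat.card ↥C) := by
    by_contra hev
    obtain ⟨i, hiC, hio⟩ := CfsgLib.Small.exists_invol_mem (Nat.not_odd_iff_even.1 hev)
    refine hcent (i : ↥H) (by rw [Subgroup.orderOf_coe]; exact hio)
      (mem_centralizer_iff.2 fun r hr => ?_)
    exact congrArg Subtype.val (mem_centralizer_iff.1 hiC ⟨r, hR'N hr⟩ hr)
  -- `N(Z(J(P₁)))` fixes `x`
  set NG := N₁.map H.subtype with hNG
  set PG := ((P₁ : Subgroup ↥N₁).map N₁.subtype).map H.subtype with hPG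
  set Z := Cfsg.centerThompsonOf p PG with hZ
  have hZeq : (Z₁.map N₁.subtype).map H.subtype = Z := by
    rw [hZ₁, CfsgLib.OddOrder.ZJ.map_centerThompsonOf N₁.subtype_injective.injOn,
      CfsgLib.OddOrder.ZJ.map_centerThompsonOf H.subtype_injective.injOn]
  have hPGp : IsPGroup p ↥PG := (P₁.isPGroup'.map _).map _
  have hcardH : Nat.card ↥H = Nat.card ↥N₁ * N₁.index := (card_mul_index N₁).symm
  set PH : Sylow p ↥H := (P₁.isPGroup'.map N₁.subtype).toSylow (by
    rw [index_map_subtype]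
    intro hd
    exact (s.prime.dvd_mul.1 hd).elim P₁.not_dvd_index hNp) with hPH
  have hPGH : (PH : Subgroup ↥H).map H.subtype = PG := rfl
  have hPne : PG ≠ ⊥ := by
    intro e
    have hP1 : (P₁ : Subgroup ↥N₁) = ⊥ := by
      rwa [hPG, map_eq_bot_iff_of_injective _ H.subtype_injective,
        map_eq_bot_iff_of_injective _ N₁.subtype_injective] at e
    rw [hP1, le_bot_iff, subgroupOf_eq_bot, disjoint_iff, inf_eq_left.2 hR'N] at hR'P
    obtain ⟨E, hE, hEx⟩ := A.exists_big x
    obtain ⟨F, hFE, hF⟩ := exists_four_le hE.1 (by have := hE.2; omega)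
    obtain ⟨f, hf, hf1, -⟩ := CfsgLib.Classification.exists_mem_ne_of_isKleinFour hF 1
    refine hcent ⟨f, hEx (hFE hf)⟩ ?_ ?_
    · rw [Subgroup.orderOf_mk]
      exact ZCGroup.orderOf_of_mem_four hF hf hf1
    · rw [hR'P]
      refine mem_centralizer_iff.2 fun a ha => ?_
      rw [SetLike.mem_coe, mem_bot] at ha
      rw [ha, one_mul, mul_one]
  have hZne : Z ≠ ⊥ := CfsgLib.OddOrder.centerThompsonOf_ne_bot hPGp hPne
  have hZtop : Z ≠ ⊤ := fun e => s.nonsolvable (by
    have : IsPGroup p G := (IsPGroup.to_le hPGp (CfsgLib.OddOrder.centerThompsonOf_le p PG)).of_equiv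
      ((MulEquiv.subgroupCongr e).trans Subgroup.topEquiv)
    haveI := this.isNilpotent
    infer_instance)
  have hNZ : normalizer (Z : Set G) ≠ ⊤ := s.normalizer_ne_top hZne hZtop
  have hKodd : ¬ 2 ∣ ((K.map N₁.subtype).index) := by
    rw [index_map_subtype]
    intro hd
    rcases Nat.prime_two.dvd_mul.1 hd with h | h
    · exact Nat.not_even_iff_odd.2 (hCodd.of_dvd_nat (index_dvd_card_of_sup_eq_top C K hCK))
        (even_iff_two_dvd.2 h)
    · exact hN2 h
  have hKZ : (K.map N₁.subtype).map H.subtype ≤ normalizer (Z : Set G) := by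
    refine ((map_mono (le_normalizer_map N₁.subtype)).trans (le_normalizer_map H.subtype)).trans ?_
    rw [hZeq]
  have hNle : normalizer (Z : Set G) ≤ H := by
    obtain ⟨SK⟩ : Nonempty (Sylow 2 ↥(K.map N₁.subtype)) := inferInstance
    set SH : Sylow 2 ↥H := (SK.isPGroup'.map (K.map N₁.subtype).subtype).toSylow (by
      rw [index_map_subtype]
      intro hd
      exact (Nat.prime_two.dvd_mul.1 hd).elim SK.not_dvd_index hKodd) with hSH
    obtain ⟨E, hE, hEx⟩ := A.exists_big x
    obtain ⟨k, hk, hkE⟩ := ZCGroup.exists_conj_mem_sylow SH (isPGroup_of_elementary hE.1) hEx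
    obtain ⟨F, hFE, hF⟩ := exists_four_le (hE.map k).1 (by have := (hE.map k).2; omega)
    refine A.le_stabilizer hNZ
      ⟨hF.card_four, fun v hv => CfsgLib.Classification.sq_eq_one_of_isKleinFour hF hv⟩ ?_ ?_
    · intro f hf
      obtain ⟨a, ha, rfl⟩ := hFE hf
      obtain ⟨b, hb, hbe⟩ := hkE a ha
      refine hKZ ⟨b, map_subtype_le _ hb, ?_⟩
      exact hbe
    · intro f hf
      obtain ⟨a, ha, rfl⟩ := hFE hf
      exact mul_mem (mul_mem hk (hEx ha)) (inv_mem hk)
  -- a Sylow `p`-subgroup of `G`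
  have hmaxP : ∀ Q : Subgroup G, IsPGroup p ↥Q → PG ≤ Q → Q = PG := by
    intro Q hQ hle
    by_contra hne
    obtain ⟨q, hq, hqP⟩ := SetLike.exists_of_lt
      (CfsgLib.Small.lt_inf_normalizer_of_pGroup hQ (lt_of_le_of_ne hle (Ne.symm hne)))
    have hqH : q ∈ H :=
      hNle (CfsgLib.OddOrder.normalizer_le_normalizer_centerThompsonOf p PG hq.2)
    have hpg : IsPGroup p ↥(((PG ⊔ zpowers q).subgroupOf H)) :=
      (hQ.to_le (sup_le hle (zpowers_le.2 hq.1))).comap_subtype
    refine hqP ?_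
    rw [← hPGH]
    refine ⟨⟨q, hqH⟩, ?_, rfl⟩
    rw [← PH.is_maximal' hpg (fun a ha => mem_sup_left (hPGH.le ⟨a, ha, rfl⟩))]
    exact mem_sup_right (mem_zpowers q)
  obtain ⟨P, hP⟩ := hPGp.exists_le_sylow
  have hPeq : (P : Subgroup G) = PG := hmaxP _ P.isPGroup' hP
  -- a product of two involutions with different fixed points, conjugated into `P`
  obtain ⟨s₀, hs₀, hs₀x⟩ := A.fix.exists_inv x
  obtain ⟨t₀, ht₀, ht₀y⟩ := A.fix.exists_inv y
  set w := s₀ * t₀ with hw
  have hwodd : Odd (orderOf w) := odd_mul A.fix hs₀ ht₀ hs₀x ht₀y hy.symm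
  have hw1 : w ≠ 1 := fun e => hy (A.fix.unique t₀ ht₀ y x ht₀y (by
    rw [show t₀ = s₀ by rw [← CfsgLib.Small.inv_eq_self_of_orderOf_two hs₀]
                        exact eq_inv_of_mul_eq_one_right e]
    exact hs₀x))
  have hinv : s₀ * w * s₀⁻¹ = w⁻¹ := by
    rw [hw, mul_inv_rev, CfsgLib.Small.inv_eq_self_of_orderOf_two hs₀,
      CfsgLib.Small.inv_eq_self_of_orderOf_two ht₀, ← mul_assoc,
      CfsgLib.Small.mul_self_of_orderOf_two hs₀, one_mul]
  obtain ⟨i, hi⟩ := exists_primePow_of_inverted s.prime hp2 s.nil hs₀ hwodd hinv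
  obtain ⟨Q, hQ⟩ := (IsPGroup.of_card (n := i) (by rw [Nat.card_zpowers, hi]) :
    IsPGroup p ↥(zpowers w)).exists_le_sylow
  obtain ⟨g, hg⟩ := MulAction.exists_smul_eq G Q P
  set w' := g * w * g⁻¹ with hw'
  have hw'P : w' ∈ (P : Subgroup G) := hg ▸ ⟨w, hQ (mem_zpowers w), rfl⟩
  have hw'x : w' • x = x := by
    have hle : PG ≤ H := map_subtype_le _
    exact hle (hPeq ▸ hw'P)
  set t' := g * s₀ * g⁻¹ with ht'
  have ht'o : orderOf t' = 2 := by rw [ht', orderOf_conj_eq, hs₀]
  have hinv' : t' * w' * t'⁻¹ = w'⁻¹ := by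
    calc t' * w' * t'⁻¹ = g * (s₀ * w * s₀⁻¹) * g⁻¹ := by rw [ht', hw']; group
      _ = g * w⁻¹ * g⁻¹ := by rw [hinv]
      _ = w'⁻¹ := by rw [hw']; group
  have hno : ∀ z : Ω, w' • z = z → t' • z ≠ z := by
    intro z hz hzt
    have hz' : w • (g⁻¹ • z) = g⁻¹ • z := by
      calc w • g⁻¹ • z = g⁻¹ • (w' • z) := by rw [hw', smul_smul, smul_smul]; congr 1; group
        _ = g⁻¹ • z := by rw [hz]
    have hsz : s₀ • (g⁻¹ • z) = g⁻¹ • z := by
      calc s₀ • g⁻¹ • z = g⁻¹ • (t' • z) := by rw [ht', smul_smul, smul_smul]; congr 1; group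
        _ = g⁻¹ • z := by rw [hzt]
    have htz : t₀ • (g⁻¹ • z) = g⁻¹ • z := by
      have e : t₀ = s₀ * w := by
        rw [hw, ← mul_assoc, CfsgLib.Small.mul_self_of_orderOf_two hs₀, one_mul]
      rw [e, mul_smul, hz', hsz]
    exact hy ((A.fix.unique t₀ ht₀ _ _ ht₀y htz).trans
      (A.fix.unique s₀ hs₀ _ _ hsz hs₀x))
  -- control of fusion
  have hmem : t'⁻¹ * w' * t' ∈ (P : Subgroup G) := by
    have e : t'⁻¹ * w' * t' = w'⁻¹ := by
      rw [CfsgLib.Small.inv_eq_self_of_orderOf_two ht'o]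
      calc t' * w' * t' = t' * w' * t'⁻¹ := by
            rw [CfsgLib.Small.inv_eq_self_of_orderOf_two ht'o]
        _ = w'⁻¹ := hinv'
    rw [e]
    exact inv_mem hw'P
  obtain ⟨n, hn, hna⟩ := Cfsg.Agent.S0118.result hp2 s.no_section P {w'}
    (Set.singleton_subset_iff.2 hw'P) t'
    (by rw [Set.image_singleton, Set.singleton_subset_iff]; exact hmem)
  have hnH : n • x = x := hNle (by rw [hPeq] at hn; exact hn)
  have hcw : t' * n⁻¹ ∈ centralizer ({w'} : Set G) := by
    refine mem_centralizer_singleton_iff.2 ?_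
    calc t' * n⁻¹ * w' = t' * (n⁻¹ * w' * n) * n⁻¹ := by group
      _ = t' * (t'⁻¹ * w' * t') * n⁻¹ := by rw [hna w' rfl]
      _ = w' * (t' * n⁻¹) := by group
  exact no_swap A.fix ht'o hinv' hno hw'x hcw (by rw [mul_smul, inv_smul_eq_iff.2 hnH.symm])

end CfsgLib.CoprimeNilpotent
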