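import Cfsg.Agent.CoprimeNilpotent.Rank
import Cfsg.Agent.CoprimeNilpotent.Auto
import Cfsg.Agent.ZCGroup.Embedded
import Cfsg.Agent.Small.NormalFour
import Cfsg.Agent.S0221
import Cfsg.Agent.Solvable.Fitting

/-!
# Involution centralizers: every commuting pair of involutions lies in an elementary group of order
eight, and one odd subgroup `W` is normalized by all these centralizers

The closures of the cores over the four groups inside elementary abelian subgroups of order at
least eight of a Sylow 2-subgroup `S` coincide (`Linked`).  A centralizer `C(t)` containing such a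
subgroup normalizes the common closure `W` (`centralizer_le_normalizer`); the only delicate case,
a rank two group `O₂(C(t)/O(C(t)))` with an automorphism of order five, is excluded by the bound on
the rank for `p = 5`.
-/

set_option autoImplicit false
set_option linter.style.haveILetI false

namespace CfsgLib.CoprimeNilpotent

open Subgroup CfsgLib.ZCGroup
open scoped Pointwise

variable {G : Type*} [Group G] {p : ℕ}

/-- An elementary abelian subgroup of order at least eight. -/
def IsBig (E : Subgroup G) : Prop := Cfsg.IsElementaryAbelian 2 E ∧ 4 < Nat.card E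

theorem isElementaryAbelian_of_sq {E : Subgroup G} (h : ∀ e ∈ E, e * e = 1) :
    Cfsg.IsElementaryAbelian 2 E := by
  refine ⟨⟨⟨fun a b => Subtype.ext ?_⟩⟩, fun e he => by rw [sq]; exact h e he⟩
  show (a : G) * b = b * a
  have hab := h _ (mul_mem a.2 b.2)
  have ha := inv_eq_of_mul_eq_one_right (h a a.2)
  have hb := inv_eq_of_mul_eq_one_right (h b b.2)
  have h' := inv_eq_of_mul_eq_one_right hab
  rw [mul_inv_rev, ha, hb] at h'
  exact h'.symm

theorem IsBig.mul_self {E : Subgroup G} (hE : IsBig E) {e : G} (he : e ∈ E) : e * e = 1 := by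
  rw [← sq]; exact hE.1.2 e he

theorem elementary_comm {E : Subgroup G} (hE : Cfsg.IsElementaryAbelian 2 E) {a b : G}
    (ha : a ∈ E) (hb : b ∈ E) : a * b = b * a :=
  congrArg Subtype.val (hE.1.is_comm.comm ⟨a, ha⟩ ⟨b, hb⟩)

theorem IsBig.comm {E : Subgroup G} (hE : IsBig E) {a b : G} (ha : a ∈ E) (hb : b ∈ E) :
    a * b = b * a :=
  elementary_comm hE.1 ha hb

theorem isPGroup_of_elementary {E : Subgroup G} (hE : Cfsg.IsElementaryAbelian 2 E) :
    IsPGroup 2 ↥E :=
  fun y => ⟨1, Subtype.ext (by rw [pow_one]; exact hE.2 y y.2)⟩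

theorem IsBig.map {E : Subgroup G} (hE : IsBig E) (g : G) :
    IsBig (E.map (MulAut.conj g).toMonoidHom) := by
  refine ⟨isElementaryAbelian_of_sq ?_, ?_⟩
  · rintro _ ⟨e, he, rfl⟩
    rw [← map_mul, hE.mul_self he, map_one]
  · rw [card_map_of_injective (MulAut.conj g).injective]; exact hE.2

variable [Finite G]

theorem isKleinFour_of_card {F : Subgroup G} (h4 : Nat.card F = 4) (hsq : ∀ f ∈ F, f * f = 1) :
    IsKleinFour F := by
  haveI : Nontrivial F := Finite.one_lt_card_iff_nontrivial.1 (by omega)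
  refine ⟨h4, (Monoid.exponent_eq_prime_iff Nat.prime_two).2 fun f hf => ?_⟩
  exact orderOf_eq_prime (hp := ⟨Nat.prime_two⟩) (Subtype.ext (by rw [sq]; exact hsq f f.2)) hf

/-- An elementary abelian group of order at least four contains a four group. -/
theorem exists_four_le {C : Subgroup G} (hC : Cfsg.IsElementaryAbelian 2 C)
    (h4 : 4 ≤ Nat.card C) : ∃ F : Subgroup G, F ≤ C ∧ IsKleinFour F := by
  haveI : Fact (Nat.Prime 2) := ⟨Nat.prime_two⟩
  obtain ⟨k, hk⟩ := IsPGroup.iff_card.1 (isPGroup_of_elementary hC)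
  have hk2 : 2 ≤ k := by
    by_contra hlt
    have := Nat.pow_le_pow_right two_pos (show k ≤ 1 by omega)
    omega
  obtain ⟨F, hF⟩ := Sylow.exists_subgroup_card_pow_prime (G := ↥C) 2 (n := 2)
    (hk ▸ pow_dvd_pow 2 hk2)
  refine ⟨F.map C.subtype, map_subtype_le _, isKleinFour_of_card ?_ fun f hf => ?_⟩
  · rw [card_map_of_injective C.subtype_injective, hF]; norm_num
  · rw [← sq]; exact hC.2 f (map_subtype_le _ hf)

/-- An elementary abelian group with a big subgroup centralizing it contains a big subgroup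
containing a given element. -/
theorem exists_eight_le {E : Subgroup G} (hE : IsBig E) :
    ∃ E' : Subgroup G, E' ≤ E ∧ Nat.card E' = 8 ∧ ∀ e ∈ E', e ^ 2 = 1 := by
  haveI : Fact (Nat.Prime 2) := ⟨Nat.prime_two⟩
  obtain ⟨k, hk⟩ := IsPGroup.iff_card.1 (isPGroup_of_elementary hE.1)
  have hk3 : 3 ≤ k := by
    by_contra hlt
    have := Nat.pow_le_pow_right two_pos (show k ≤ 2 by omega)
    have := hE.2
    omega
  obtain ⟨F, hF⟩ := Sylow.exists_subgroup_card_pow_prime (G := ↥E) 2 (n := 3)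
    (hk ▸ pow_dvd_pow 2 hk3)
  exact ⟨F.map E.subtype, map_subtype_le _,
    by rw [card_map_of_injective E.subtype_injective, hF]; norm_num,
    fun f hf => hE.1.2 f (map_subtype_le _ hf)⟩

/-- A group of commuting involutions normalizing a four group with a fixed involution centralizes
it in a subgroup of index at most two. -/
theorem exists_four_centralizing {V E : Subgroup G} (hV : IsKleinFour V) (hE : IsBig E)
    (hEV : E ≤ normalizer (V : Set G)) {t : G} (htV : t ∈ V) (ht : t ≠ 1)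
    (htc : ∀ e ∈ E, e * t = t * e) :
    ∃ F : Subgroup G, F ≤ E ∧ IsKleinFour F ∧ ∀ v ∈ V, ∀ f ∈ F, v * f = f * v := by
  classical
  obtain ⟨v, hv, hv1, hvt⟩ := CfsgLib.Classification.exists_mem_ne_of_isKleinFour hV t
  set Vs := CfsgLib.Classification.fourSpan t v
    (CfsgLib.Classification.sq_eq_one_of_isKleinFour hV htV)
    (CfsgLib.Classification.sq_eq_one_of_isKleinFour hV hv)
    (CfsgLib.Classification.comm_of_isKleinFour hV htV hv) with hVs
  have hVeq : Vs = V := by
    refine eq_of_le_of_card_ge ?_ ?_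
    · intro x hx
      rcases CfsgLib.Classification.mem_fourSpan.1 hx with rfl | rfl | rfl | rfl
      exacts [one_mem _, htV, hv, mul_mem htV hv]
    · rw [hV.card_four, (CfsgLib.Classification.isKleinFour_fourSpan _ _ _ ht hv1
        (Ne.symm hvt)).card_four]
  have hconj : ∀ e ∈ E, e * v * e⁻¹ = v ∨ e * v * e⁻¹ = t * v := by
    intro e he
    have hm : e * v * e⁻¹ ∈ Vs := by
      rw [hVeq]; exact (mem_normalizer_iff.1 (hEV he) v).1 hv
    rcases CfsgLib.Classification.mem_fourSpan.1 hm with h | h | h | h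
    · rw [conj_eq_one_iff] at h; exact absurd h hv1
    · refine absurd ?_ hvt
      calc v = e⁻¹ * (e * v * e⁻¹) * e := by group
        _ = e⁻¹ * t * e := by rw [h]
        _ = t := by rw [mul_assoc, ← htc e he, inv_mul_cancel_left]
    · exact Or.inl h
    · exact Or.inr h
  set C := E ⊓ centralizer ({v} : Set G) with hC
  have hmov : ∀ a ∈ E, ∀ b ∈ E, a * v * a⁻¹ ≠ v → b * v * b⁻¹ ≠ v → a * b ∈ C := by
    intro a ha b hb h1 h2
    refine ⟨mul_mem ha hb, mem_centralizer_singleton_iff.2 (mul_inv_eq_iff_eq_mul.1 ?_)⟩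
    calc a * b * v * (a * b)⁻¹ = a * (b * v * b⁻¹) * a⁻¹ := by group
      _ = (a * t * a⁻¹) * (a * v * a⁻¹) := by rw [(hconj b hb).resolve_left h2]; group
      _ = t * (t * v) := by rw [(hconj a ha).resolve_left h1, htc a ha, mul_inv_cancel_right]
      _ = v := by
        rw [← mul_assoc, CfsgLib.Classification.sq_eq_one_of_isKleinFour hV htV, one_mul]
  have hcard : Nat.card E ≤ 2 * Nat.card C := by
    by_cases hall : ∀ e ∈ E, e * v * e⁻¹ = v
    · have hEC : E ≤ C := fun e he =>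
        ⟨he, mem_centralizer_singleton_iff.2 (mul_inv_eq_iff_eq_mul.1 (hall e he))⟩
      have := card_le_of_le hEC
      omega
    · push Not at hall
      obtain ⟨a, ha, hav⟩ := hall
      let f : ↥E → ↥C × Bool := fun e =>
        if h : (e : G) * v * (e : G)⁻¹ = v then
          (⟨e, e.2, mem_centralizer_singleton_iff.2 (mul_inv_eq_iff_eq_mul.1 h)⟩, false)
        else (⟨(e : G) * a, hmov _ e.2 a ha h hav⟩, true)
      have hf : Function.Injective f := by
        intro e e' hee
        simp only [f] at hee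
        split_ifs at hee with h h' h' <;> simp only [Prod.mk.injEq] at hee
        · exact Subtype.ext (congrArg (fun y : ↥C => (y : G)) hee.1)
        · exact absurd hee.2 (by simp)
        · exact absurd hee.2 (by simp)
        · exact Subtype.ext (mul_right_cancel (congrArg (fun y : ↥C => (y : G)) hee.1))
      have := Nat.card_le_card_of_injective f hf
      rw [Nat.card_prod, Nat.card_eq_fintype_card (α := Bool), Fintype.card_bool] at this
      omega
  obtain ⟨F, hFC, hF⟩ := exists_four_le (C := C)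
    (isElementaryAbelian_of_sq fun e he => hE.mul_self he.1) (by
      have hE2 := hE.2
      haveI : Fact (Nat.Prime 2) := ⟨Nat.prime_two⟩
      obtain ⟨k, hk⟩ := IsPGroup.iff_card.1 (isPGroup_of_elementary hE.1)
      obtain ⟨j, hj⟩ := IsPGroup.iff_card.1
        ((isPGroup_of_elementary hE.1).to_le (inf_le_left : C ≤ E))
      have h8 : 8 ≤ Nat.card E := by
        by_contra hlt
        rw [hk] at hE2 hlt
        rcases Nat.lt_or_ge k 3 with h3 | h3
        · have := Nat.pow_le_pow_right two_pos (show k ≤ 2 by omega); omega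
        · have := Nat.pow_le_pow_right two_pos h3; omega
      omega)
  refine ⟨F, hFC.trans inf_le_left, hF, fun x hx f hf => ?_⟩
  have hfv : f * v = v * f := mem_centralizer_singleton_iff.1 (hFC hf).2
  have hft : f * t = t * f := htc f (hFC hf).1
  rw [← hVeq] at hx
  rcases CfsgLib.Classification.mem_fourSpan.1 hx with rfl | rfl | rfl | rfl
  · simp
  · exact hft.symm
  · exact hfv.symm
  · exact (Commute.mul_left (show Commute t f from hft.symm) (show Commute v f from hfv.symm)).eq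

omit [Finite G] in
theorem Setting.centralizer_ne_top (s : Setting p G) {t : G} (ht : t ≠ 1) :
    centralizer ({t} : Set G) ≠ ⊤ := by
  intro h
  haveI := s.simple
  have hc : t ∈ center G :=
    mem_center_iff.2 fun g => mem_centralizer_singleton_iff.1 (h.ge (mem_top g))
  rcases (inferInstance : (center G).Normal).eq_bot_or_eq_top with hb | hb
  · rw [hb, mem_bot] at hc; exact ht hc
  · exact s.nonsolvable (Group.isSolvable_of_comm fun a b =>
      (mem_center_iff.1 (hb.ge (mem_top a)) b).symm)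

theorem Setting.solvableCentralizers (s : Setting p G) : SolvableCentralizers G := fun _ ht =>
  s.proper _ (s.centralizer_ne_top (ZCGroup.ne_one_of_orderOf ht))

omit [Finite G] in
theorem Setting.index_ne_two (s : Setting p G) (H : Subgroup G) : H.index ≠ 2 := by
  intro h
  haveI := s.simple
  rcases (normal_of_index_eq_two h).eq_bot_or_eq_top with hb | hb
  · rw [hb, index_bot] at h
    haveI : Fact (Nat.Prime 2) := ⟨Nat.prime_two⟩
    haveI := isCyclic_of_prime_card h
    exact s.nonsolvable (Group.isSolvable_of_comm fun a b => IsCyclic.commGroup.mul_comm a b)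
  · rw [hb, index_top] at h; omega

/-- The centralizer of an involution contains an elementary abelian subgroup of order eight. -/
theorem Setting.exists_big_centralizer (s : Setting p G) {t : G} (ht : orderOf t = 2) :
    ∃ E : Subgroup G, IsBig E ∧ E ≤ centralizer ({t} : Set G) := by
  obtain ⟨S⟩ : Nonempty (Sylow 2 G) := inferInstance
  obtain ⟨E₀, hE₀S, hE₀, hcard, -⟩ := exists_large_elementary s S
  obtain ⟨E', hE'E, h8, hsq⟩ := exists_eight_le (E := E₀) ⟨hE₀, hcard⟩
  obtain ⟨E, hEC, hE8, hEsq⟩ := Cfsg.Agent.S0221.result s.index_ne_two ⟨E', h8, hsq⟩ t ht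
  exact ⟨E, ⟨isElementaryAbelian_of_sq fun e he => by rw [← sq]; exact hEsq e he, by omega⟩, hEC⟩

/-- All fours inside big elementary subgroups of `S` have closure `W`. -/
def Linked (W : Subgroup G) (S : Sylow 2 G) : Prop :=
  ∀ E : Subgroup G, E ≤ (S : Subgroup G) → IsBig E → ∀ F : Subgroup G, F ≤ E → IsKleinFour F →
    cl F = W

theorem Setting.exists_linked (s : Setting p G) (S : Sylow 2 G) : ∃ W, Linked W S := by
  obtain ⟨E₀, hE₀S, hE₀, hcard, -⟩ := exists_large_elementary s S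
  obtain ⟨E', hE'E, h8, hsq⟩ := exists_eight_le (E := E₀) ⟨hE₀, hcard⟩
  have hS2 := S.isPGroup'
  obtain ⟨U, hUn, hU4, hUsq⟩ := CfsgLib.Small.exists_normal_four (G := ↥(S : Subgroup G)) hS2
    (E := E'.subgroupOf (S : Subgroup G))
    (by rw [Nat.card_congr (subgroupOfEquivOfLe (hE'E.trans hE₀S)).toEquiv, h8])
    (fun e he => Subtype.ext (hsq e he))
  haveI := hUn
  obtain ⟨z, hzU, hzc, hz⟩ := CfsgLib.Small.exists_central_invol_mem (G := ↥(S : Subgroup G)) hS2 U
    (fun e => by rw [e, card_bot] at hU4; omega)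
  set V := U.map (S : Subgroup G).subtype with hV
  have hVk : IsKleinFour V := isKleinFour_of_card
    (by rw [hV, card_map_of_injective (subtype_injective _), hU4])
    (by rintro _ ⟨u, hu, rfl⟩; rw [← map_mul, ← sq, hUsq u hu, map_one])
  refine ⟨cl V, fun E hES hE F hFE hF => ?_⟩
  have hEV : E ≤ normalizer (V : Set G) := by
    intro x hx
    rw [mem_normalizer_iff_map_conj_eq]
    refine eq_of_le_of_card_ge ?_
      (le_of_eq (card_map_of_injective (K := V) (MulAut.conj x).injective).symm)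
    rintro _ ⟨_, ⟨u, hu, rfl⟩, rfl⟩
    exact ⟨⟨x, hES hx⟩ * u * ⟨x, hES hx⟩⁻¹, hUn.conj_mem u hu _, rfl⟩
  obtain ⟨F₀, hF₀E, hF₀, hc⟩ := exists_four_centralizing hVk hE (t := (z : G)) hEV
    ⟨z, hzU, rfl⟩ (ZCGroup.ne_one_of_orderOf (by rw [Subgroup.orderOf_coe]; exact hz))
    (fun e he => congrArg Subtype.val (mem_center_iff.1 hzc ⟨e, hES he⟩))
  rw [closure_eq_of_commute s.solvableCentralizers hF hF₀
    fun a ha b hb => hE.comm (hFE ha) (hF₀E hb)]
  exact (closure_eq_of_commute s.solvableCentralizers hVk hF₀ hc).symm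

/-- A Sylow subgroup sharing a big elementary subgroup with a linked one is linked. -/
theorem Linked.transfer (s : Setting p G) {W : Subgroup G} {S S' : Sylow 2 G} (h : Linked W S)
    {E : Subgroup G} (hE : IsBig E) (hES : E ≤ (S : Subgroup G)) (hES' : E ≤ (S' : Subgroup G)) :
    Linked W S' := by
  obtain ⟨W', h'⟩ := s.exists_linked S'
  obtain ⟨F, hFE, hF⟩ := exists_four_le hE.1 (by have := hE.2; omega)
  rw [← h E hES hE F hFE hF, h' E hES' hE F hFE hF]
  exact h'

theorem Linked.mem_normalizer {W : Subgroup G} {S S' : Sylow 2 G} (h : Linked W S)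
    (h' : Linked W S') {E : Subgroup G} (hE : IsBig E) (hES : E ≤ (S : Subgroup G)) {g : G}
    (hg : E.map (MulAut.conj g).toMonoidHom ≤ (S' : Subgroup G)) :
    g ∈ normalizer (W : Set G) := by
  obtain ⟨F, hFE, hF⟩ := exists_four_le hE.1 (by have := hE.2; omega)
  rw [← mul_mem_map_conj_iff, ← h E hES hE F hFE hF, ← closure_conj]
  rw [h' _ hg (hE.map g) _ (map_mono hFE)
    (CfsgLib.Classification.isKleinFour_map _ (MulAut.conj g).injective hF), h E hES hE F hFE hF]

theorem Linked.normalizer_le (s : Setting p G) {W : Subgroup G} {S : Sylow 2 G} (h : Linked W S) :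
    normalizer ((S : Subgroup G) : Set G) ≤ normalizer (W : Set G) := by
  obtain ⟨E, hES, hE, hcard, -⟩ := exists_large_elementary s S
  intro g hg
  refine h.mem_normalizer h (E := E) ⟨hE, hcard⟩ hES ?_
  exact (map_mono hES).trans (mem_normalizer_iff_map_conj_eq.1 hg).le

theorem Linked.sylow_le (s : Setting p G) {W : Subgroup G} {S : Sylow 2 G} (h : Linked W S) :
    (S : Subgroup G) ≤ normalizer (W : Set G) :=
  le_normalizer.trans (h.normalizer_le s)

theorem Linked.conj (s : Setting p G) {W : Subgroup G} {S : Sylow 2 G} (h : Linked W S) {g : G}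
    (hg : g ∈ normalizer (W : Set G)) : Linked W (g • S) := by
  obtain ⟨W', h'⟩ := s.exists_linked (g • S)
  obtain ⟨E, hES, hE, hcard, -⟩ := exists_large_elementary s S
  obtain ⟨F, hFE, hF⟩ := exists_four_le hE (by omega)
  have h1 : cl (F.map (MulAut.conj g).toMonoidHom) = W' := by
    refine h' (E.map (MulAut.conj g).toMonoidHom) ?_ ((show IsBig E from ⟨hE, hcard⟩).map g) _
      (map_mono hFE) (CfsgLib.Classification.isKleinFour_map _ (MulAut.conj g).injective hF)
    rintro _ ⟨e, he, rfl⟩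
    exact ⟨e, hES he, rfl⟩
  rw [closure_conj, h E hES ⟨hE, hcard⟩ F hFE hF, mul_mem_map_conj_iff.2 hg] at h1
  rw [h1]
  exact h'

theorem Linked.odd (s : Setting p G) {W : Subgroup G} {S : Sylow 2 G} (h : Linked W S) :
    Odd (Nat.card W) := by
  obtain ⟨E, hES, hE, hcard, -⟩ := exists_large_elementary s S
  obtain ⟨F, hFE, hF⟩ := exists_four_le hE (by omega)
  rw [← h E hES ⟨hE, hcard⟩ F hFE hF]
  exact closure_odd s.solvableCentralizers hF hE hcard
    fun f hf e he => elementary_comm hE (hFE hf) he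

theorem Linked.core_le (s : Setting p G) {W : Subgroup G} {S : Sylow 2 G} (h : Linked W S)
    {E : Subgroup G} (hE : IsBig E) (hES : E ≤ (S : Subgroup G)) {t : G} (ht : orderOf t = 2)
    (hEt : E ≤ centralizer ({t} : Set G)) : core t ≤ W := by
  obtain ⟨F, hFE, hF⟩ := exists_four_le hE.1 (by have := hE.2; omega)
  rw [← h E hES hE F hFE hF]
  exact core_le_closure s.solvableCentralizers hF ht
    fun f hf => mem_centralizer_singleton_iff.1 (hEt (hFE hf))

/-- `O₂(C/O₂'₂(C)) = 1`. -/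
theorem pCore_quotient_pPrimePCore (C : Type*) [Group C] [Finite C] :
    Cfsg.pCore 2 (C ⧸ Cfsg.pPrimePCore 2 C) = ⊥ := by
  haveI : (Cfsg.pPrimePCore 2 C).Normal := Subgroup.Normal.comap inferInstance _
  set O := Cfsg.pPrimeCore 2 C with hO
  set L := Cfsg.pPrimePCore 2 C with hL
  have hOL : O ≤ L.comap (MonoidHom.id C) := CfsgLib.PLocal.pPrimeCore_le_pPrimePCore 2 C
  set f := QuotientGroup.map O L (MonoidHom.id C) hOL with hf
  have hfs : Function.Surjective f := by
    intro y
    obtain ⟨c, rfl⟩ := QuotientGroup.mk_surjective y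
    exact ⟨QuotientGroup.mk c, rfl⟩
  have hker : f.ker = Cfsg.pCore 2 (C ⧸ O) := by
    ext y
    obtain ⟨c, rfl⟩ := QuotientGroup.mk_surjective y
    show (QuotientGroup.mk c : C ⧸ L) = 1 ↔ _
    rw [QuotientGroup.eq_one_iff]
    rfl
  haveI : ((Cfsg.pCore 2 (C ⧸ L)).comap f).Normal := Subgroup.Normal.comap inferInstance _
  have hle : (Cfsg.pCore 2 (C ⧸ L)).comap f ≤ f.ker := by
    rw [hker]
    refine CfsgLib.PLocal.le_pCore (IsPGroup.comap_of_ker_isPGroup
      (CfsgLib.PLocal.isPGroup_pCore 2 _) f ?_)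
    rw [hker]
    exact CfsgLib.PLocal.isPGroup_pCore 2 _
  refine (eq_bot_iff_forall _).2 fun y hy => ?_
  obtain ⟨x, rfl⟩ := hfs y
  exact hle hy

theorem card_sqrt_one_units_five : Nat.card {u : (ZMod 5)ˣ // u * u = 1} ≤ 2 := by
  rw [Nat.card_eq_fintype_card]
  decide

/-- The square roots of one in a group of automorphisms of a group of order five. -/
theorem card_involutions_aut_five {F : Type*} [Group F] [Finite F] (hF : Nat.card F ∣ 5)
    {I : Subgroup (MulAut F)} (hI : ∀ x ∈ I, x * x = 1) : Nat.card I ≤ 2 := by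
  rcases (Nat.dvd_prime (by norm_num : Nat.Prime 5)).1 hF with h1 | h5
  · haveI : Subsingleton F := (Nat.card_eq_one_iff_unique.1 h1).1
    haveI : Subsingleton (MulAut F) :=
      ⟨fun a b => MulEquiv.ext fun x => Subsingleton.elim _ _⟩
    rw [Nat.card_of_subsingleton (1 : ↥I)]
    norm_num
  · haveI : Fact (Nat.Prime 5) := ⟨by norm_num⟩
    haveI := isCyclic_of_prime_card h5
    let e : MulAut F ≃* (ZMod 5)ˣ :=
      (IsCyclic.mulAutMulEquiv F).trans (Units.mapEquiv (ZMod.ringEquivCongr h5).toMulEquiv)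
    refine le_trans (Nat.card_le_card_of_injective
      (fun x : ↥I => (⟨e x.1, by rw [← map_mul, hI _ x.2, map_one]⟩ :
        {u : (ZMod 5)ˣ // u * u = 1}))
      (fun a b hab => Subtype.ext (e.injective (congrArg Subtype.val hab)))) ?_
    exact card_sqrt_one_units_five

/-- An involution centralizer containing a big subgroup of a linked Sylow subgroup normalizes `W`. -/
theorem Linked.centralizer_le (s : Setting p G) {W : Subgroup G} {S : Sylow 2 G}
    (h : Linked W S) {E : Subgroup G} (hE : IsBig E) (hES : E ≤ (S : Subgroup G)) {t : G}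
    (ht : orderOf t = 2) (hEt : E ≤ centralizer ({t} : Set G)) :
    centralizer ({t} : Set G) ≤ normalizer (W : Set G) := by
  classical
  haveI : Fact (Nat.Prime 2) := ⟨Nat.prime_two⟩
  haveI := Fact.mk s.prime
  have hp2 : p ≠ 2 := three_lt_ne_two s.three_lt
  set C := centralizer ({t} : Set G) with hCdef
  have hcoreW : core t ≤ W := h.core_le s hE hES ht hEt
  haveI hCsol : Group.IsSolvable ↥C := s.solvableCentralizers t ht
  -- a Sylow subgroup of `C` containing `E`
  obtain ⟨St, hSt⟩ := ((isPGroup_of_elementary hE.1).comap_subtype (K := C)).exists_le_sylow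
  set StG := (St : Subgroup ↥C).map C.subtype with hStG
  have hEStG : E ≤ StG := fun e he => ⟨⟨e, hEt he⟩, hSt he, rfl⟩
  have hStp : IsPGroup 2 ↥StG := St.isPGroup'.map _
  obtain ⟨S', hS'⟩ := hStp.exists_le_sylow
  have hlink : Linked W S' := h.transfer s hE hES (hEStG.trans hS')
  have hS'N := hlink.sylow_le s
  -- the Frattini argument
  set O := Cfsg.pPrimeCore 2 ↥C with hO
  set L := Cfsg.pPrimePCore 2 ↥C with hL
  haveI : L.Normal := Subgroup.Normal.comap inferInstance _
  set P : Sylow 2 ↥L := (St.isPGroup'.comap_subtype (K := L)).toSylow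
    (CfsgLib.Transfer.not_dvd_relIndex_of_normal St L) with hPdef
  set T := (P : Subgroup ↥L).map L.subtype with hTdef
  have hTeq : T = (St : Subgroup ↥C) ⊓ L := subgroupOf_map_subtype _ _
  have hsup := CfsgLib.PLocal.normalizer_sylow_pPrimePCore_sup (p := 2) (G := ↥C) P
  have hcon : centralizer (T : Set ↥C) ≤ L := s.solvableCentralizers.constrained ht P
  set N := normalizer (T : Set ↥C) with hNdef
  suffices hN : ∀ n ∈ N, (n : G) ∈ normalizer (W : Set G) by
    intro c hc
    have hmem : (⟨c, hc⟩ : ↥C) ∈ N ⊔ O := hsup.ge (mem_top _)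
    obtain ⟨n, hn, k, hk, hnk⟩ := mem_sup_of_normal_right.1 hmem
    rw [show c = (n : G) * (k : G) from (congrArg Subtype.val hnk).symm]
    exact mul_mem (hN n hn) (le_normalizer (hcoreW ⟨k, hk, rfl⟩))
  set TG := T.map C.subtype with hTG
  have hTGp : IsPGroup 2 ↥TG := (P.isPGroup'.map _).map _
  have hTS' : TG ≤ (S' : Subgroup G) := (map_mono (hTeq.le.trans inf_le_left)).trans hS'
  have hNTG : ∀ n ∈ N, (n : G) ∈ normalizer (TG : Set G) := by
    intro n hn
    exact le_normalizer_map C.subtype ⟨n, hn, rfl⟩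
  intro n hn
  by_cases hbig : ∃ E' : Subgroup G, E' ≤ TG ∧ IsBig E'
  · obtain ⟨E', hE'T, hE'⟩ := hbig
    refine hlink.mem_normalizer hlink hE' (hE'T.trans hTS') ?_
    exact (map_mono hE'T).trans ((mem_normalizer_iff_map_conj_eq.1 (hNTG n hn)).le.trans hTS')
  push Not at hbig
  have hrank : ∀ A : Subgroup G, A ≤ TG → Cfsg.IsElementaryAbelian 2 A → Nat.card A ≤ 4 := by
    intro A hA hAe
    by_contra hlt
    exact hbig A hA ⟨hAe, by omega⟩
  -- `V = Ω₁(Z(T))`
  set V := Cfsg.omegaOne 2 (TG ⊓ centralizer (TG : Set G)) with hV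
  have hVe : Cfsg.IsElementaryAbelian 2 V := CfsgLib.PLocal.isElementaryAbelian_omegaOne
    ⟨⟨fun a b => Subtype.ext (mem_centralizer_iff.1 b.2.2 _ a.2.1)⟩⟩
  have hVT : V ≤ TG := (CfsgLib.PLocal.omegaOne_le _ _).trans inf_le_left
  have hV4 : Nat.card V ≤ 4 := hrank V hVT hVe
  have hVconj : ∀ g : G, g ∈ normalizer (TG : Set G) → g ∈ normalizer (V : Set G) := by
    intro g hg
    rw [mem_normalizer_iff_map_conj_eq, hV,
      CfsgLib.PLocal.map_omegaOne (MulAut.conj g).injective]
    congr 1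
    have hD := mem_normalizer_iff_map_conj_eq.1 hg
    refine eq_of_le_of_card_ge ?_ (by rw [card_map_of_injective (MulAut.conj g).injective])
    rintro _ ⟨d, hd, rfl⟩
    refine ⟨hD.le ⟨d, hd.1, rfl⟩, mem_centralizer_iff.2 fun e he => ?_⟩
    obtain ⟨e', he', rfl⟩ := hD.ge he
    show MulAut.conj g e' * MulAut.conj g d = MulAut.conj g d * MulAut.conj g e'
    rw [← map_mul, ← map_mul, mem_centralizer_iff.1 hd.2 e' he']
  have hSTN : ∀ x : ↥C, x ∈ (St : Subgroup ↥C) → x ∈ N := by
    intro x hx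
    rw [hNdef, hTeq, mem_normalizer_iff]
    intro y
    exact and_congr (mem_normalizer_iff.1 (le_normalizer hx) y)
      ⟨fun hy => (inferInstance : L.Normal).conj_mem y hy x, fun hy => by
        simpa [mul_assoc] using (inferInstance : L.Normal).conj_mem _ hy x⁻¹⟩
  have hStc : StG ≤ centralizer ({t} : Set G) := map_subtype_le _
  have htV : t ∈ V := by
    have htC : t ∈ C := mem_centralizer_singleton_iff.2 rfl
    have htcenter : (⟨t, htC⟩ : ↥C) ∈ center ↥C := mem_center_iff.2 fun g =>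
      Subtype.ext (mem_centralizer_singleton_iff.1 g.2)
    have htSt : (⟨t, htC⟩ : ↥C) ∈ (St : Subgroup ↥C) := by
      haveI : (zpowers (⟨t, htC⟩ : ↥C)).Normal := ⟨fun x hx g => by
        rw [mem_center_iff.1 (zpowers_le.2 htcenter hx) g, mul_inv_cancel_right]
        exact hx⟩
      have hp : IsPGroup 2 ↥(zpowers (⟨t, htC⟩ : ↥C)) :=
        IsPGroup.of_card (n := 1) (by rw [Nat.card_zpowers, Subgroup.orderOf_mk, ht, pow_one])
      rw [← St.is_maximal' (hp.to_sup_of_normal_left St.isPGroup') le_sup_right]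
      exact mem_sup_left (mem_zpowers _)
    have htL : (⟨t, htC⟩ : ↥C) ∈ L := hcon (mem_centralizer_iff.2 fun g _ =>
      Subtype.ext (mem_centralizer_singleton_iff.1 g.2))
    refine CfsgLib.PLocal.mem_omegaOne ⟨⟨⟨t, htC⟩, hTeq.ge ⟨htSt, htL⟩, rfl⟩,
      mem_centralizer_iff.2 fun x hx => ?_⟩ (by rw [sq]; exact mul_self_of_orderOf ht)
    obtain ⟨y, -, rfl⟩ := hx
    exact mem_centralizer_singleton_iff.1 y.2
  by_cases hVfour : Nat.card V = 4
  · -- `V` is a normal four group of the Sylow subgroup of `C(t)`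
    have hVk : IsKleinFour V :=
      isKleinFour_of_card hVfour fun v hv => by rw [← sq]; exact hVe.2 v hv
    obtain ⟨F, hFE, hF, hc⟩ := exists_four_centralizing hVk hE
      (fun e he => hVconj e (hNTG _ (hSTN ⟨e, hEt he⟩ (hSt he))))
      htV (ZCGroup.ne_one_of_orderOf ht)
      (fun e he => mem_centralizer_singleton_iff.1 (hEt he))
    have hclV : cl V = W := by
      rw [closure_eq_of_commute s.solvableCentralizers hVk hF hc]
      exact h E hES hE F hFE hF
    rw [← mul_mem_map_conj_iff, ← hclV, ← closure_conj]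
    exact congrArg cl (mem_normalizer_iff_map_conj_eq.1 (hVconj _ (hNTG n hn)))
  have hVt : ∀ v ∈ V, v = 1 ∨ v = t := by
    intro v hv
    obtain ⟨k, hk⟩ := IsPGroup.iff_card.1 (isPGroup_of_elementary hVe)
    have hk1 : k ≤ 1 := by
      have h2k : 2 ^ k ≤ 2 ^ 2 := by omega
      have := (Nat.pow_le_pow_iff_right one_lt_two).1 h2k
      rcases Nat.lt_or_ge k 2 with h' | h'
      · omega
      · exact absurd (by rw [hk, show k = 2 by omega]; norm_num) hVfour
    by_contra hne
    push Not at hne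
    have h3 : 3 ≤ Nat.card V := by
      haveI := Fintype.ofFinite ↥V
      rw [Nat.card_eq_fintype_card]
      refine le_trans (le_of_eq ?_) (Finset.card_le_univ
        ({1, ⟨t, htV⟩, ⟨v, hv⟩} : Finset ↥V))
      rw [Finset.card_insert_of_notMem, Finset.card_insert_of_notMem, Finset.card_singleton]
      · simp [Ne.symm hne.2]
      · simp [Subtype.ext_iff, Ne.symm (ZCGroup.ne_one_of_orderOf ht), Ne.symm hne.1]
    have := Nat.pow_le_pow_right two_pos hk1
    omega
  -- elements of `N` of odd prime power order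
  let ψ : ↥N →* ↥C ⧸ L := (QuotientGroup.mk' L).comp N.subtype
  have hψs : Function.Surjective ψ := by
    intro y
    obtain ⟨c, rfl⟩ := QuotientGroup.mk_surjective y
    have hmem : c ∈ N ⊔ O := hsup.ge (mem_top _)
    obtain ⟨m, hm, k, hk, rfl⟩ := mem_sup_of_normal_right.1 hmem
    refine ⟨⟨m, hm⟩, QuotientGroup.eq.2 ?_⟩
    show m⁻¹ * (m * k) ∈ L
    rw [inv_mul_cancel_left]
    exact CfsgLib.PLocal.pPrimeCore_le_pPrimePCore 2 _ hk
  let φ : ↥N →* MulAut ↥T := T.normalizerMonoidHom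
  have hφker : ∀ x : ↥N, φ x = 1 ↔ (x : ↥C) ∈ centralizer (T : Set ↥C) := by
    intro x
    rw [← MonoidHom.mem_ker]
    show x ∈ T.normalizerMonoidHom.ker ↔ _
    rw [normalizerMonoidHom_ker]
    exact Iff.rfl
  have hoddO : ∀ x : ↥C, Odd (orderOf x) → x ∈ L → x ∈ O := by
    intro x hx hxL
    have hxL' : QuotientGroup.mk' O x ∈ Cfsg.pCore 2 (↥C ⧸ O) := hxL
    obtain ⟨i, hi⟩ := IsPGroup.iff_orderOf.1
      (CfsgLib.PLocal.isPGroup_pCore 2 (↥C ⧸ O)) ⟨_, hxL'⟩
    rw [Subgroup.orderOf_mk, QuotientGroup.mk'_apply] at hi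
    have hd : orderOf (QuotientGroup.mk x : ↥C ⧸ O) ∣ orderOf x :=
      orderOf_map_dvd (QuotientGroup.mk' O) x
    refine (QuotientGroup.eq_one_iff x).1 (orderOf_eq_one_iff.1 (Nat.eq_one_of_dvd_coprimes
      ((Nat.coprime_two_left.2 hx).pow_left i) (hi ▸ dvd_rfl) hd))
  have hTO : ∀ x : ↥N, (x : ↥C) ∈ O → φ x = 1 := by
    intro x hx
    rw [hφker]
    refine mem_centralizer_iff.2 fun a ha => ?_
    have h1 : (x : ↥C) * a * (x : ↥C)⁻¹ * a⁻¹ ∈ T :=
      mul_mem ((mem_normalizer_iff.1 x.2 a).1 ha) (inv_mem ha)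
    have h2 : (x : ↥C) * a * (x : ↥C)⁻¹ * a⁻¹ ∈ O := by
      rw [mul_assoc (x : ↥C), mul_assoc (x : ↥C)]
      exact mul_mem hx ((inferInstance : O.Normal).conj_mem _ (inv_mem hx) a)
    have h3 : T ⊓ O = ⊥ := CfsgLib.PLocal.disjoint_of_isPGroup_of_coprime (P.isPGroup'.map _)
      (CfsgLib.PLocal.coprime_card_pPrimeCore 2 _)
    have h4 : (x : ↥C) * a * (x : ↥C)⁻¹ * a⁻¹ ∈ (⊥ : Subgroup ↥C) := h3 ▸ ⟨h1, h2⟩
    rw [mem_bot, mul_inv_eq_one, mul_inv_eq_iff_eq_mul] at h4
    exact h4.symm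
  have hTp : IsPGroup 2 ↥T := P.isPGroup'.map _
  have hq : ∀ r : ℕ, r.Prime → r ≠ 2 → r ≠ p → ∀ x : ↥N, (∃ i, orderOf x = r ^ i) → φ x = 1 := by
    intro r hr hr2 hrp x hx
    rw [hφker]
    obtain ⟨i, hi⟩ := hx
    refine mem_centralizer_iff.2 fun a ha => Subtype.ext ?_
    exact (commute_of_normalizes_two s.prime hp2 s.nil hTGp hr hrp hr2
      ⟨i, by rw [Subgroup.orderOf_coe, Subgroup.orderOf_coe, hi]⟩ (hNTG _ x.2)
      ⟨a, ha, rfl⟩).eq.symm
  have hoddr : ∀ r : ℕ, r.Prime → r ≠ 2 → ∀ x : ↥N, (∃ i, orderOf x = r ^ i) →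
      Odd (orderOf (x : ↥C)) := by
    rintro r hr hr2 x ⟨i, hi⟩
    rw [Subgroup.orderOf_coe, hi]
    exact (hr.odd_of_ne_two hr2).pow
  have hW : ∀ x : ↥N, Odd (orderOf (x : ↥C)) → φ x = 1 → ((x : ↥C) : G) ∈ normalizer (W : Set G) :=
    fun x hx hx1 => le_normalizer (hcoreW ⟨(x : ↥C), hoddO _ hx (hcon ((hφker x).1 hx1)), rfl⟩)
  by_cases hall : ∀ x : ↥N, (∃ i, orderOf x = p ^ i) → φ x = 1
  · suffices htop : ((normalizer (W : Set G)).subgroupOf C).subgroupOf N = ⊤ by
      exact (htop.ge (mem_top (⟨n, hn⟩ : ↥N)) : (⟨n, hn⟩ : ↥N) ∈ _)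
    refine eq_top_of_sylows _ fun r hr => ?_
    haveI := Fact.mk hr
    by_cases hr2 : r = 2
    · subst hr2
      refine ⟨St.subtype fun x hx => hSTN x hx, fun x hx => ?_⟩
      exact hS'N (hS' ⟨(x : ↥C), hx, rfl⟩)
    obtain ⟨R⟩ : Nonempty (Sylow r ↥N) := inferInstance
    refine ⟨R, sylow_le_of_forall hr (fun x hx => hW x (hoddr r hr hr2 x hx) ?_) R⟩
    by_cases hrp : r = p
    · exact hall x (hrp ▸ hx)
    · exact hq r hr hr2 hrp x hx
  -- the exceptional automorphism of order five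
  exfalso
  push Not at hall
  obtain ⟨x₀, ⟨i₀, hx₀⟩, hx₀ne⟩ := hall
  obtain ⟨R, hR⟩ := (IsPGroup.of_card (n := i₀)
    (by rw [Nat.card_zpowers, hx₀]) : IsPGroup p ↥(zpowers x₀)).exists_le_sylow
  set Y := (R : Subgroup ↥N).map φ with hY
  have hYp : IsPGroup p ↥Y := R.isPGroup'.map _
  have hrankT : ∀ A : Subgroup ↥T, Cfsg.IsElementaryAbelian 2 A → Nat.card A ≤ 4 := by
    intro A hA
    rw [← card_map_of_injective (K := A) (f := C.subtype.comp T.subtype)
      (C.subtype_injective.comp T.subtype_injective)]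
    refine hrank _ ?_ (isElementaryAbelian_of_sq ?_)
    · rw [← map_map]; exact map_mono (map_subtype_le A)
    · rintro _ ⟨a, ha, rfl⟩
      rw [← map_mul, ← sq, hA.2 a ha, map_one]
  rcases card_pGroup_aut s.prime s.three_lt hTp hrankT Y hYp with hbot | ⟨hp5, hY5⟩
  · refine hx₀ne ?_
    have : φ x₀ ∈ Y := ⟨x₀, hR (mem_zpowers _), rfl⟩
    rwa [hbot, mem_bot] at this
  subst hp5
  -- `C(t)` contains a whole Sylow 2-subgroup of `G`
  have hS'C : (S' : Subgroup G) ≤ C := by
    obtain ⟨z, hzS, hz, hzc⟩ := CfsgLib.Inv53.exists_orderOf_eq_central S'.isPGroup'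
      (S'.ne_bot_of_dvd_card s.even.two_dvd)
    have htS' : t ∈ (S' : Subgroup G) := hTS' (hVT htV)
    have hzC : z ∈ C := mem_centralizer_singleton_iff.2 (hzc t htS').symm
    have hzT : ∀ a ∈ (St : Subgroup ↥C), (a : G) * z = z * a := fun a ha =>
      hzc _ (hS' ⟨a, ha, rfl⟩)
    have hzSt : (⟨z, hzC⟩ : ↥C) ∈ (St : Subgroup ↥C) := by
      have hp : IsPGroup 2 ↥(zpowers (⟨z, hzC⟩ : ↥C)) :=
        IsPGroup.of_card (n := 1) (by rw [Nat.card_zpowers, Subgroup.orderOf_mk, hz, pow_one])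
      have hle : zpowers (⟨z, hzC⟩ : ↥C) ≤ normalizer ((St : Subgroup ↥C) : Set ↥C) := by
        refine zpowers_le.2 (mem_normalizer_iff_map_conj_eq.2 (eq_of_le_of_card_ge ?_
          (by rw [card_map_of_injective (MulAut.conj (⟨z, hzC⟩ : ↥C)).injective])))
        rintro _ ⟨a, ha, rfl⟩
        show (⟨z, hzC⟩ : ↥C) * a * (⟨z, hzC⟩ : ↥C)⁻¹ ∈ (St : Subgroup ↥C)
        rw [show (⟨z, hzC⟩ : ↥C) * a = a * ⟨z, hzC⟩ from Subtype.ext (hzT a ha).symm,
          mul_inv_cancel_right]
        exact ha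
      rw [← St.is_maximal' (hp.to_sup_of_normal_right' St.isPGroup' hle) le_sup_right]
      exact mem_sup_left (mem_zpowers _)
    have hzL : (⟨z, hzC⟩ : ↥C) ∈ L := hcon (mem_centralizer_iff.2 fun a ha =>
      Subtype.ext (hzT a (hTeq.le ha).1))
    have hzV : z ∈ V := CfsgLib.PLocal.mem_omegaOne ⟨⟨⟨z, hzC⟩, hTeq.ge ⟨hzSt, hzL⟩, rfl⟩,
      mem_centralizer_iff.2 fun a ha => hzc a (hTS' ha)⟩ (by rw [sq]; exact mul_self_of_orderOf hz)
    rcases hVt z hzV with h1 | h1
    · exact absurd h1 (ZCGroup.ne_one_of_orderOf hz)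
    · intro a ha
      exact mem_centralizer_singleton_iff.2 (h1 ▸ hzc a ha)
  have hS'St : (S' : Subgroup G) ≤ StG := by
    intro a ha
    have hp : IsPGroup 2 ↥((S' : Subgroup G).subgroupOf C) := S'.isPGroup'.comap_subtype
    have hle : (St : Subgroup ↥C) ≤ (S' : Subgroup G).subgroupOf C :=
      fun x hx => hS' ⟨x, hx, rfl⟩
    refine ⟨⟨a, hS'C ha⟩, ?_, rfl⟩
    rw [← St.is_maximal' hp hle]
    exact ha
  obtain ⟨E₁, hE₁S, hE₁, -, hE₁16⟩ := exists_large_elementary s S'
  have h16 : 8 < Nat.card E₁ := hE₁16 rfl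
  -- the quotient by `O₂'₂(C)`
  set B := ↥C ⧸ L with hB
  have hB5 : ∀ Q : Sylow 5 B, Nat.card ↥(Q : Subgroup B) = 5 := by
    haveI : Fact (Nat.Prime 5) := ⟨by norm_num⟩
    intro Q
    rw [Nat.card_congr (Q.equiv (R.mapSurjective hψs)).toEquiv, Sylow.coe_mapSurjective]
    have hk : ∀ r : ↥(R : Subgroup ↥N), ψ r = 1 ↔ φ r = 1 := by
      intro r
      have hodd : Odd (orderOf ((r : ↥N) : ↥C)) := by
        obtain ⟨i, hi⟩ := IsPGroup.iff_orderOf.1 R.isPGroup' r
        exact hoddr 5 (by norm_num) (by norm_num) r.1 ⟨i, by rw [Subgroup.orderOf_coe]; exact hi⟩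
      constructor
      · intro h1
        exact hTO _ (hoddO _ hodd ((QuotientGroup.eq_one_iff _).1 h1))
      · intro h1
        exact (QuotientGroup.eq_one_iff _).2 (hcon ((hφker _).1 h1))
    have hkeq : (ψ.comp (R : Subgroup ↥N).subtype).ker =
        (φ.comp (R : Subgroup ↥N).subtype).ker := by
      ext r
      exact hk r
    have e1 := index_ker (ψ.comp (R : Subgroup ↥N).subtype)
    have e2 := index_ker (φ.comp (R : Subgroup ↥N).subtype)
    rw [MonoidHom.range_comp, range_subtype] at e1 e2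
    rw [← e1, hkeq, e2]
    exact hY5
  have hB2 : ∀ r : ℕ, r.Prime → r ≠ 2 → r ≠ 5 → ¬ r ∣ Nat.card B := by
    intro r hr hr2 hr5 hdvd
    haveI := Fact.mk hr
    obtain ⟨R'⟩ : Nonempty (Sylow r ↥N) := inferInstance
    have hbot : ((R'.mapSurjective hψs : Sylow r B) : Subgroup B) = ⊥ := by
      rw [Sylow.coe_mapSurjective, eq_bot_iff_forall]
      rintro _ ⟨x, hx, rfl⟩
      obtain ⟨i, hi⟩ := IsPGroup.iff_orderOf.1 R'.isPGroup' ⟨x, hx⟩
      exact (QuotientGroup.eq_one_iff _).2 (hcon ((hφker _).1 (hq r hr hr2 hr5 x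
        ⟨i, by rwa [← Subgroup.orderOf_coe] at hi⟩)))
    exact (R'.mapSurjective hψs).ne_bot_of_dvd_card hdvd hbot
  haveI : Group.IsSolvable B :=
    Group.isSolvable_of_surjective (QuotientGroup.mk'_surjective L)
  haveI : Fact (Nat.Prime 5) := ⟨by norm_num⟩
  have hBO : Cfsg.pPrimeCore 5 B = ⊥ := by
    have hco := CfsgLib.PLocal.coprime_card_pPrimeCore 5 B
    have h2 : IsPGroup 2 ↥(Cfsg.pPrimeCore 5 B) := by
      obtain ⟨e, m, hm, hem⟩ := Nat.exists_eq_pow_mul_and_not_dvd
        (Nat.card_pos (α := ↥(Cfsg.pPrimeCore 5 B))).ne' 2 (by norm_num)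
      refine IsPGroup.of_card (n := e) ?_
      have hm1 : m = 1 := by
        by_contra hne
        obtain ⟨r, hr, hrm⟩ := Nat.exists_prime_and_dvd hne
        have hrd : r ∣ Nat.card ↥(Cfsg.pPrimeCore 5 B) := hem ▸ hrm.trans (dvd_mul_left _ _)
        refine hB2 r hr (fun e2 => hm (e2 ▸ hrm)) (fun e5 => ?_)
          (hrd.trans (card_subgroup_dvd_card _))
        exact (Nat.Prime.coprime_iff_not_dvd (by norm_num)).1 hco.symm (e5 ▸ hrd)
      rw [hem, hm1, mul_one]
    exact le_bot_iff.1 ((CfsgLib.PLocal.le_pCore h2).trans (pCore_quotient_pPrimePCore ↥C).le)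
  set F := Cfsg.pCore 5 B with hFdef
  have hFself : centralizer (F : Set B) ≤ F :=
    CfsgLib.PLocal.centralizer_pCore_le CfsgLib.PLocal.isPSolvable_of_isSolvable hBO
  have hF5 : Nat.card F ∣ 5 := by
    obtain ⟨Q⟩ : Nonempty (Sylow 5 B) := inferInstance
    exact hB5 Q ▸ card_dvd_of_le (CfsgLib.PLocal.pCore_le_sylow Q)
  haveI : F.Normal := inferInstance
  set E' := E₁.subgroupOf C with hE'
  have hE'St : E' ≤ (St : Subgroup ↥C) := fun x hx => by
    obtain ⟨y, hy, hyx⟩ := hS'St (hE₁S hx)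
    rwa [← Subtype.ext (show (y : G) = (x : G) from hyx)]
  let ρ : ↥E' →* MulAut ↥F :=
    (MulAut.conjNormal (H := F)).comp ((QuotientGroup.mk' L).comp E'.subtype)
  have hker : ∀ x : ↥E', ρ x = 1 → (x : ↥C) ∈ T := by
    intro x hx
    refine hTeq.ge ⟨hE'St x.2, (QuotientGroup.eq_one_iff _).1 ?_⟩
    have hF' : (QuotientGroup.mk (x : ↥C) : B) ∈ F := by
      refine hFself (mem_centralizer_iff.2 fun f hf => ?_)
      have h1 := congrArg Subtype.val
        (congrArg (fun σ : MulAut ↥F => σ ⟨f, hf⟩) hx)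
      simp only [ρ, MonoidHom.comp_apply, MulAut.one_apply] at h1
      rw [MulAut.conjNormal_apply] at h1
      exact (mul_inv_eq_iff_eq_mul.1 h1).symm
    obtain ⟨i, hi⟩ := IsPGroup.iff_orderOf.1 (CfsgLib.PLocal.isPGroup_pCore 5 B) ⟨_, hF'⟩
    rw [Subgroup.orderOf_mk] at hi
    have h2 : (QuotientGroup.mk (x : ↥C) : B) * QuotientGroup.mk (x : ↥C) = 1 := by
      rw [← QuotientGroup.mk_mul, show (x : ↥C) * (x : ↥C) = 1 from
        Subtype.ext (by simpa [sq] using hE₁.2 _ x.2), QuotientGroup.mk_one]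
    have hd : orderOf (QuotientGroup.mk (x : ↥C) : B) ∣ 2 :=
      orderOf_dvd_of_pow_eq_one (by rw [sq]; exact h2)
    rw [hi] at hd
    exact orderOf_eq_one_iff.1 (hi ▸ Nat.eq_one_of_dvd_coprimes
      ((by norm_num : Nat.Coprime 5 2).pow_left i) dvd_rfl hd)
  have himg : Nat.card ↥ρ.range ≤ 2 := by
    refine card_involutions_aut_five hF5 ?_
    rintro _ ⟨x, rfl⟩
    rw [← map_mul, show x * x = 1 from Subtype.ext (Subtype.ext
      (by simpa [sq] using hE₁.2 _ x.2)), map_one]
  have hkcard : Nat.card ↥ρ.ker ≤ 4 := by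
    rw [← card_map_of_injective (K := ρ.ker) (f := C.subtype.comp E'.subtype)
      (C.subtype_injective.comp E'.subtype_injective)]
    refine hrank _ ?_ (isElementaryAbelian_of_sq ?_)
    · rintro _ ⟨x, hx, rfl⟩
      exact ⟨_, hker x hx, rfl⟩
    · rintro _ ⟨x, hx, rfl⟩
      simpa [sq] using hE₁.2 _ x.2
  have hEcard : Nat.card ↥E' = Nat.card ↥E₁ :=
    Nat.card_congr (subgroupOfEquivOfLe (hE₁S.trans hS'C)).toEquiv
  have := card_mul_index ρ.ker
  rw [index_ker, hEcard] at this
  have := Nat.mul_le_mul hkcard himg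
  omega

end CfsgLib.CoprimeNilpotent
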