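import Cfsg.Agent.CoprimeNilpotent.Basic
import Cfsg.Agent.AlperinGoldschmidt.Basic
import Cfsg.Agent.Inv53.Constrained
import Cfsg.Agent.S0215

/-!
# The 2-rank is at least three, and at least four if `p = 5`

Otherwise every element of a Sylow 2-normalizer in the Alperin–Goldschmidt chain fixes a central
involution, which is then isolated, against the `Z*` theorem.
-/

set_option autoImplicit false
set_option linter.style.haveILetI false

namespace CfsgLib.CoprimeNilpotent

open Subgroup

variable {G : Type*} [Group G] [Finite G] {p : ℕ}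

theorem three_lt_ne_two (hp3 : 3 < p) : p ≠ 2 := by omega

/-- An element of `p`-power order centralizes a small elementary abelian 2-group it normalizes. -/
theorem commute_of_small_elementary (hp : p.Prime) (hp3 : 3 < p) {A : Subgroup G}
    (hA : Cfsg.IsElementaryAbelian 2 A) (hsmall : Nat.card A ≤ 4 ∨ (p = 5 ∧ Nat.card A ≤ 8))
    {x : G} (hx : ∃ i, orderOf x = p ^ i) (hxn : x ∈ normalizer (A : Set G)) {a : G} (ha : a ∈ A) :
    Commute x a := by
  haveI : Fact (Nat.Prime 2) := ⟨Nat.prime_two⟩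
  haveI := Fact.mk hp
  obtain ⟨i, hi⟩ := hx
  have hA2 : IsPGroup 2 ↥A :=
    fun y => ⟨1, Subtype.ext (by rw [pow_one]; exact hA.2 y y.2)⟩
  let φ : ↥(zpowers x) →* MulAut ↥A :=
    A.normalizerMonoidHom.comp (inclusion (zpowers_le.2 hxn))
  letI : MulAction ↥(zpowers x) ↥A := MulAction.compHom _ φ
  have hsmul : ∀ (g : ↥(zpowers x)) (b : ↥A), ((g • b : ↥A) : G) = (g : G) * b * (g : G)⁻¹ :=
    fun g b => rfl
  have hP : IsPGroup p ↥(zpowers x) := IsPGroup.of_card (n := i) (by rw [Nat.card_zpowers, hi])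
  have hmod := hP.card_modEq_card_fixedPoints ↥A
  set C := A ⊓ centralizer ({x} : Set G) with hC
  have e : MulAction.fixedPoints ↥(zpowers x) ↥A ≃ ↥C :=
    { toFun := fun b => ⟨(b.1 : G), b.1.2, mem_centralizer_singleton_iff.2 (by
        have h := congrArg Subtype.val (b.2 ⟨x, mem_zpowers x⟩)
        rw [hsmul] at h
        exact (mul_inv_eq_iff_eq_mul.1 h).symm)⟩
      invFun := fun b => ⟨⟨(b : G), b.2.1⟩, fun g => by
        refine Subtype.ext ?_
        rw [hsmul]
        obtain ⟨k, hk⟩ := mem_zpowers_iff.1 g.2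
        have hc : Commute x (b : G) := (mem_centralizer_singleton_iff.1 b.2.2).symm
        rw [← hk, (hc.zpow_left k).eq, mul_inv_cancel_right]⟩
      left_inv := fun b => Subtype.ext (Subtype.ext rfl)
      right_inv := fun b => Subtype.ext rfl }
  rw [Nat.card_congr e] at hmod
  obtain ⟨k, hk⟩ := IsPGroup.iff_card.1 hA2
  obtain ⟨j, hj⟩ := IsPGroup.iff_card.1 (hA2.to_le (inf_le_left : C ≤ A))
  have hjk : 2 ^ j ≤ 2 ^ k := hj ▸ hk ▸ card_le_of_le inf_le_left
  have hjk' : j ≤ k := (Nat.pow_le_pow_iff_right one_lt_two).1 hjk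
  rw [hj, hk] at hmod
  have hd : p ∣ 2 ^ k - 2 ^ j := (Nat.modEq_iff_dvd' hjk).1 hmod.symm
  have hkey : k = j := by
    by_contra hne
    have hk3 : k ≤ 3 := by
      have : Nat.card A ≤ 8 := by rcases hsmall with h | ⟨-, h⟩ <;> omega
      rw [hk] at this
      exact (Nat.pow_le_pow_iff_right one_lt_two).1 (this.trans (by norm_num : (8 : ℕ) ≤ 2 ^ 3))
    have hle := Nat.le_of_dvd (by
      have : 2 ^ j < 2 ^ k := Nat.pow_lt_pow_right one_lt_two (by omega)
      omega) hd
    rcases hsmall with h4 | ⟨h5, -⟩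
    · rw [hk] at h4
      have hk2 : k ≤ 2 :=
        (Nat.pow_le_pow_iff_right one_lt_two).1 (h4.trans (by norm_num : (4 : ℕ) ≤ 2 ^ 2))
      have h1 : 1 ≤ 2 ^ j := Nat.one_le_two_pow
      omega
    · subst h5
      clear * - hd hne hjk' hk3
      interval_cases k <;> interval_cases j <;> omega
  have hCA : C = A := eq_of_le_of_card_ge inf_le_left (by rw [hj, hk, hkey])
  exact (mem_centralizer_singleton_iff.1 ((hCA.ge ha : a ∈ C).2)).symm

/-- The normalizer of a subgroup on which fusion runs fixes every central involution of the Sylow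
subgroup when the elementary abelian subgroups are small. -/
theorem centralizes_of_small (s : Setting p G) (S : Sylow 2 G)
    (hsmall : ∀ E : Subgroup G, E ≤ (S : Subgroup G) → Cfsg.IsElementaryAbelian 2 E →
      Nat.card E ≤ 4 ∨ (p = 5 ∧ Nat.card E ≤ 8))
    {z : G} (hz : orderOf z = 2) (hzc : ∀ t ∈ (S : Subgroup G), t * z = z * t) {D : Subgroup G}
    (hDS : D ≤ (S : Subgroup G)) (hzD : z ∈ D)
    (hsyl : ¬ 2 ∣ ((S : Subgroup G) ⊓ normalizer (D : Set G)).relIndex (normalizer (D : Set G)))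
    {x : G} (hx : x ∈ normalizer (D : Set G)) : x * z = z * x := by
  haveI : Fact (Nat.Prime 2) := ⟨Nat.prime_two⟩
  have hp2 : p ≠ 2 := three_lt_ne_two s.three_lt
  set N := normalizer (D : Set G) with hN
  set Z := D ⊓ centralizer (D : Set G) with hZ
  set Ω := Cfsg.omegaOne 2 Z with hΩ
  have hΩe : Cfsg.IsElementaryAbelian 2 Ω := CfsgLib.PLocal.isElementaryAbelian_omegaOne
    ⟨⟨fun a b => Subtype.ext (mem_centralizer_iff.1 b.2.2 _ a.2.1)⟩⟩
  have hΩS : Ω ≤ (S : Subgroup G) :=
    (CfsgLib.PLocal.omegaOne_le _ _).trans (inf_le_left.trans hDS)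
  have hzΩ : z ∈ Ω := CfsgLib.PLocal.mem_omegaOne
    ⟨hzD, mem_centralizer_iff.2 fun d hd => hzc d (hDS hd)⟩ (by rw [← hz, pow_orderOf_eq_one])
  have hNΩ : N ≤ normalizer (Ω : Set G) := by
    intro g hg
    rw [mem_normalizer_iff_map_conj_eq, hΩ,
      CfsgLib.PLocal.map_omegaOne (MulAut.conj g).injective]
    congr 1
    have hD : D.map (MulAut.conj g).toMonoidHom = D := mem_normalizer_iff_map_conj_eq.1 hg
    refine eq_of_le_of_card_ge ?_
      (by rw [card_map_of_injective (MulAut.conj g).injective])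
    rintro _ ⟨d, hd, rfl⟩
    refine ⟨hD.le ⟨d, hd.1, rfl⟩, mem_centralizer_iff.2 fun e he => ?_⟩
    obtain ⟨e', he', rfl⟩ := hD.ge he
    show MulAut.conj g e' * MulAut.conj g d = MulAut.conj g d * MulAut.conj g e'
    rw [← map_mul, ← map_mul, mem_centralizer_iff.1 hd.2 e' he']
  suffices htop : (centralizer ({z} : Set G)).subgroupOf N = ⊤ by
    exact mem_centralizer_singleton_iff.1 ((htop.ge (mem_top (⟨x, hx⟩ : N))) :
      (⟨x, hx⟩ : N) ∈ _)
  refine eq_top_of_sylows _ fun r hr => ?_
  haveI := Fact.mk hr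
  by_cases hr2 : r = 2
  · subst hr2
    set SN := ((S : Subgroup G) ⊓ N).subgroupOf N with hSN
    have hpg : IsPGroup 2 ↥SN := (S.isPGroup'.to_le inf_le_left).comap_subtype
    refine ⟨hpg.toSylow hsyl, ?_⟩
    intro g hg
    exact mem_centralizer_singleton_iff.2 (hzc _ hg.1)
  obtain ⟨P⟩ : Nonempty (Sylow r ↥N) := inferInstance
  refine ⟨P, sylow_le_of_forall hr (fun g hg => ?_) P⟩
  obtain ⟨i, hi⟩ := hg
  rw [← Subgroup.orderOf_coe] at hi
  refine mem_centralizer_singleton_iff.2 ?_
  by_cases hrp : r = p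
  · subst hrp
    exact (commute_of_small_elementary s.prime s.three_lt hΩe (hsmall Ω hΩS hΩe) ⟨i, hi⟩
      (hNΩ g.2) hzΩ).eq
  · exact (commute_of_normalizes_two s.prime hp2 s.nil (S.isPGroup'.to_le hDS) hr hrp hr2
      ⟨i, hi⟩ g.2 hzD).eq

/-- A Sylow 2-subgroup contains an elementary abelian subgroup of order at least 8, and of order
at least 16 if `p = 5`. -/
theorem exists_large_elementary (s : Setting p G) (S : Sylow 2 G) :
    ∃ E : Subgroup G, E ≤ (S : Subgroup G) ∧ Cfsg.IsElementaryAbelian 2 E ∧ 4 < Nat.card E ∧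
      (p = 5 → 8 < Nat.card E) := by
  haveI : Fact (Nat.Prime 2) := ⟨Nat.prime_two⟩
  by_contra hcon
  push Not at hcon
  have hsmall : ∀ E : Subgroup G, E ≤ (S : Subgroup G) → Cfsg.IsElementaryAbelian 2 E →
      Nat.card E ≤ 4 ∨ (p = 5 ∧ Nat.card E ≤ 8) := fun E hES hE => by
    by_cases h : Nat.card E ≤ 4
    · exact Or.inl h
    · exact Or.inr (hcon E hES hE (by omega))
  have hS : (S : Subgroup G) ≠ ⊥ := S.ne_bot_of_dvd_card s.even.two_dvd
  obtain ⟨z, hzS, hz, hzc⟩ := CfsgLib.Inv53.exists_orderOf_eq_central S.isPGroup' hS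
  have key : ∀ {A : Set G} {g : G}, CfsgLib.AlperinGoldschmidt.GChain S A g → A = {z} →
      g⁻¹ * z * g = z := by
    intro A g hchain
    induction hchain with
    | nil A c hA hc =>
      rintro rfl
      rw [mul_assoc, mem_centralizer_iff.1 hc z rfl, inv_mul_cancel_left]
    | cons A D x g hD hA hx _ ih =>
      rintro rfl
      have hxz : x * z = z * x :=
        centralizes_of_small s S hsmall hz hzc hD.le_sylow (hA rfl) hD.sylow hx
      have hxz' : x⁻¹ * z * x = z := by rw [mul_assoc, ← hxz, inv_mul_cancel_left]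
      have := ih (by rw [Set.image_singleton, hxz'])
      calc (x * g)⁻¹ * z * (x * g) = g⁻¹ * (x⁻¹ * z * x) * g := by group
        _ = z := by rw [hxz', this]
  have hiso : ∀ g : G, g * z * g⁻¹ ∈ S → g * z * g⁻¹ = z := by
    intro g hg
    have hch := CfsgLib.AlperinGoldschmidt.exists_chain (P := S) (A := {z}) (g := g⁻¹)
      (Set.singleton_subset_iff.2 hzS) (by
        rw [Set.image_singleton, inv_inv, Set.singleton_subset_iff]; exact hg)
    simpa using key hch rfl
  obtain ⟨N, hNn, hNodd, hN⟩ := Cfsg.Agent.S0215.result S z hz hzS hiso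
  haveI := s.simple
  rcases hNn.eq_bot_or_eq_top with hb | ht
  · have hcenter : z ∈ center G := mem_center_iff.2 fun g => by
      have := hN g
      rw [hb, mem_bot, mul_inv_eq_one, mul_inv_eq_iff_eq_mul] at this
      exact this.symm
    rcases (inferInstance : (center G).Normal).eq_bot_or_eq_top with hc | hc
    · rw [hc, mem_bot] at hcenter
      rw [hcenter, orderOf_one] at hz
      omega
    · exact s.nonsolvable (Group.isSolvable_of_comm fun a b =>
        (mem_center_iff.1 (hc.ge (mem_top a)) b).symm)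
  · rw [ht, card_top] at hNodd
    exact absurd s.even (Nat.not_even_iff_odd.2 hNodd)

end CfsgLib.CoprimeNilpotent
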